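import Cfsg.Agent.Lib.CharTransfer.Data
import Cfsg.Agent.Lib.Fusion.Thompson

/-!
The offenders, `Ω₁(Z(J(S)))` and its centralizer in `S`.
-/

set_option autoImplicit false
set_option linter.unusedSectionVars false

namespace CfsgLib.CharTransfer

open Cfsg Matrix CfsgLib.Classical CfsgLib.LocalEven.MovesFixed CfsgLib.LocalEven.SylowIn CfsgLib.Fusion.Thompson
open scoped MatrixGroups commutatorElement

universe u

variable {X : Type u} [Group X] [Finite X] {p : ℕ} [Fact p.Prime]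

theorem isEA_sup {A B : Subgroup X} (hA : IsElementaryAbelian p A) (hB : IsElementaryAbelian p B)
    (h : ∀ a ∈ A, ∀ b ∈ B, a * b = b * a) : IsElementaryAbelian p (A ⊔ B : Subgroup X) := by
  have h1 : A ⊔ B ≤ Subgroup.centralizer ((A ⊔ B : Subgroup X) : Set X) := by
    refine sup_le (fun a ha => ?_) (fun b hb => ?_)
    · have : A ⊔ B ≤ Subgroup.centralizer {a} := sup_le
        (fun c hc => Subgroup.mem_centralizer_singleton_iff.mpr (mul_comm_of_isEA hA hc ha))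
        (fun c hc => Subgroup.mem_centralizer_singleton_iff.mpr (h a ha c hc).symm)
      exact fun c hc => Subgroup.mem_centralizer_singleton_iff.mp (this hc)
    · have : A ⊔ B ≤ Subgroup.centralizer {b} := sup_le
        (fun c hc => Subgroup.mem_centralizer_singleton_iff.mpr (h c hc b hb))
        (fun c hc => Subgroup.mem_centralizer_singleton_iff.mpr (mul_comm_of_isEA hB hc hb))
      exact fun c hc => Subgroup.mem_centralizer_singleton_iff.mp (this hc)
  refine ⟨IsMulCommutative.of_comm fun a b => Subtype.ext (h1 b.2 a a.2), fun x hx => ?_⟩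
  rw [Subgroup.sup_eq_closure] at hx
  induction hx using Subgroup.closure_induction with
  | mem y hy => exact hy.elim (hA.2 y) (hB.2 y)
  | one => exact one_pow p
  | mul y z hy hz iy iz =>
    rw [← Subgroup.sup_eq_closure] at hy hz
    have hc : Commute y z := h1 hz y hy
    rw [hc.mul_pow, iy, iz, one_mul]
  | inv y _ iy => rw [inv_pow, iy, inv_one]

/-- `p`-subgroups of a normal subgroup `N` with `S ∩ N ≤ Q`, `Q` normal, lie in `Q`. -/
theorem le_of_sylow_inf_le {N Q : Subgroup X} [N.Normal] [Q.Normal] (S : Sylow p X) (h : (S : Subgroup X) ⊓ N ≤ Q)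
    {P : Subgroup X} (hP : IsPGroup p P) (hPN : P ≤ N) : P ≤ Q := by
  obtain ⟨R, hR⟩ := hP.exists_le_sylow
  obtain ⟨g, hg⟩ := MulAction.exists_smul_eq X R S
  intro x hx
  have h1 : g * x * g⁻¹ ∈ (S : Subgroup X) := by rw [← hg]; exact ⟨x, hR hx, rfl⟩
  have h2 := (inferInstance : Q.Normal).conj_mem _ (h ⟨h1, (inferInstance : N.Normal).conj_mem x (hPN hx) g⟩) g⁻¹
  simpa [mul_assoc] using h2

theorem mem_sSup_maxEA {P A : Subgroup X} (h : A ∈ maxElementaryAbelianSubgroups p X ∧ A ≤ P) {x : X} (hx : x ∈ A) :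
    x ∈ sSup {A | A ∈ maxElementaryAbelianSubgroups p X ∧ A ≤ P} :=
  Subgroup.mem_sSup_of_mem (S := {A | A ∈ maxElementaryAbelianSubgroups p X ∧ A ≤ P}) h hx

variable {S : Sylow p X} {M : Subgroup X} [(Vp p X).Normal] {r : ℕ} {F : Fin r → Type} [∀ i, Field (F i)]
  [∀ i, CharP (F i) p] [∀ i, Fintype (F i)] (d : Data S M F)

namespace Data

/-- The upper coefficient. -/
noncomputable def coef : ↥((S : Subgroup X) ⊓ Ctx.Lp p X : Subgroup X) →* Multiplicative (∀ i, F i) where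
  toFun s := Multiplicative.ofAdd fun i => (d.Φ.ρ i ⟨s, s.2.2⟩).1 0 1
  map_one' := by
    apply Multiplicative.toAdd.injective
    funext i
    show (d.Φ.ρ i ⟨((1 : ↥((S : Subgroup X) ⊓ Ctx.Lp p X : Subgroup X)) : X), _⟩).1 0 1 = 0
    rw [show (⟨((1 : ↥((S : Subgroup X) ⊓ Ctx.Lp p X : Subgroup X)) : X), _⟩ : Ctx.Lp p X) = 1 from Subtype.ext rfl, map_one]
    exact Matrix.one_apply_ne (by decide)
  map_mul' s t := by
    apply Multiplicative.toAdd.injective
    funext i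
    obtain ⟨a, ha⟩ := d.exists_coef ⟨s, s.2.2⟩ s.2.1
    obtain ⟨b, hb⟩ := d.exists_coef ⟨t, t.2.2⟩ t.2.1
    show (d.Φ.ρ i ⟨((s * t : ↥((S : Subgroup X) ⊓ Ctx.Lp p X : Subgroup X)) : X), _⟩).1 0 1 =
      (d.Φ.ρ i ⟨s, s.2.2⟩).1 0 1 + (d.Φ.ρ i ⟨t, t.2.2⟩).1 0 1
    rw [show (⟨((s * t : ↥((S : Subgroup X) ⊓ Ctx.Lp p X : Subgroup X)) : X), _⟩ : Ctx.Lp p X) = ⟨s, s.2.2⟩ * ⟨t, t.2.2⟩ from
      Subtype.ext rfl, map_mul, ha i, hb i, ← map_mul, ← ofAdd_add, uSL_coe, uSL_coe, uSL_coe]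
    simp

theorem rho_eq_uSL (s : ↥((S : Subgroup X) ⊓ Ctx.Lp p X : Subgroup X)) (i : Fin r) :
    d.Φ.ρ i ⟨s, s.2.2⟩ = uSL (Multiplicative.ofAdd (Multiplicative.toAdd (d.coef s) i)) := by
  obtain ⟨a, ha⟩ := d.exists_coef ⟨s, s.2.2⟩ s.2.1
  show _ = uSL (Multiplicative.ofAdd ((d.Φ.ρ i ⟨s, s.2.2⟩).1 0 1))
  rw [ha i, uSL_coe]
  simp

theorem coef_eq_iff (s t : ↥((S : Subgroup X) ⊓ Ctx.Lp p X : Subgroup X)) :
    d.coef s = d.coef t ↔ (s : X)⁻¹ * t ∈ Cp p X := by
  rw [show ((s : X)⁻¹ * t) = ((⟨s, s.2.2⟩⁻¹ * ⟨t, t.2.2⟩ : Ctx.Lp p X) : X) from rfl, d.mem_C_iff]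
  constructor
  · intro h i
    rw [map_mul, map_inv, d.rho_eq_uSL s i, d.rho_eq_uSL t i, h, inv_mul_cancel]
  · intro h
    apply Multiplicative.toAdd.injective
    funext i
    have h1 := h i
    rw [map_mul, map_inv, inv_mul_eq_one] at h1
    show (d.Φ.ρ i ⟨s, s.2.2⟩).1 0 1 = (d.Φ.ρ i ⟨t, t.2.2⟩).1 0 1
    rw [h1]

theorem maxEA_le_SL {A : Subgroup X} (hA : A ∈ maxElementaryAbelianSubgroups p X) (hAS : A ≤ (S : Subgroup X)) :
    A ≤ (S : Subgroup X) ⊓ Ctx.Lp p X :=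
  le_inf hAS ((le_sSup hA).trans le_sup_left)

include d in
theorem sylow_inf_C_le : (S : Subgroup X) ⊓ Cp p X ≤ pCore p X := by
  haveI := Cp_normal (p := p) (G := X)
  exact d.sylow_inf_le _ d.ctx.C_le

theorem vp_le_Q : Vp p X ≤ pCore p X := fun _ hv => (omc_le _ hv).1

/-- The structure of an elementary abelian subgroup of maximal order. -/
theorem offender {A : Subgroup X} (hA : A ∈ maxElementaryAbelianSubgroups p X) (hAS : A ≤ (S : Subgroup X)) :
    (A ⊓ Cp p X) ⊔ Vp p X ∈ maxElementaryAbelianSubgroups p X ∧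
    ∀ i₀ (a₀ : X) (ha₀ : a₀ ∈ A), Multiplicative.toAdd (d.coef ⟨a₀, maxEA_le_SL hA hAS ha₀⟩) i₀ ≠ 0 →
      ∀ x : F i₀, ∃ a : X, ∃ ha : a ∈ A, Multiplicative.toAdd (d.coef ⟨a, maxEA_le_SL hA hAS ha⟩) = Pi.single i₀ x := by
  classical
  set ι : A →* ↥((S : Subgroup X) ⊓ Ctx.Lp p X : Subgroup X) := Subgroup.inclusion (maxEA_le_SL hA hAS)
  let supp : Finset (Fin r) := Finset.univ.filter fun i => ∃ a : A, Multiplicative.toAdd (d.coef (ι a)) i ≠ 0
  have hoff : ∀ i, i ∉ supp → ∀ a : A, Multiplicative.toAdd (d.coef (ι a)) i = 0 := fun i hi a => by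
    by_contra h
    exact hi (Finset.mem_filter.mpr ⟨Finset.mem_univ i, a, h⟩)
  let f : A →* Multiplicative (∀ i : supp, F i) :=
    { toFun := fun a => Multiplicative.ofAdd fun i => Multiplicative.toAdd (d.coef (ι a)) i
      map_one' := by simp; rfl
      map_mul' := fun a b => by simp [map_mul]; rfl }
  let g : Vp p X →* Multiplicative (∀ i : supp, F i) :=
    { toFun := fun v => Multiplicative.ofAdd fun i => d.Φ.co i v 1
      map_one' := by simp [Frame.co_one]; rfl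
      map_mul' := fun a b => by simp [Frame.co_mul]; rfl }
  have hg : Function.Surjective g := fun w => by
    obtain ⟨v, hv⟩ := d.Φ.Ψ_surj fun i => ![0, if h : i ∈ supp then Multiplicative.toAdd w ⟨i, h⟩ else 0]
    refine ⟨v, Multiplicative.toAdd.injective (funext fun i => ?_)⟩
    show d.Φ.co i v 1 = _
    rw [show d.Φ.co i v = _ from hv i]
    simp [i.2]
  have hkf : f.ker = (Cp p X).subgroupOf A := by
    ext a
    rw [MonoidHom.mem_ker, Subgroup.mem_subgroupOf]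
    have e := d.coef_eq_iff 1 (ι a)
    rw [map_one, OneMemClass.coe_one, inv_one, one_mul] at e
    refine Iff.trans ?_ e
    constructor
    · intro h
      apply Multiplicative.toAdd.injective
      funext i
      by_cases hi : i ∈ supp
      · exact (congrFun (congrArg Multiplicative.toAdd h) ⟨i, hi⟩).symm
      · exact (hoff i hi a).symm
    · intro h
      apply Multiplicative.toAdd.injective
      funext i
      exact (congrFun (congrArg Multiplicative.toAdd h) i).symm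
  have hkg : g.ker = A.subgroupOf (Vp p X) := by
    ext v
    rw [MonoidHom.mem_ker, Subgroup.mem_subgroupOf]
    constructor
    · intro h
      refine mem_of_pow_eq_one_of_centralizes hA (Subgroup.mem_centralizer_iff.mpr fun a ha => ?_) (omc_pow _ v.2)
      refine d.Φ.fixed ⟨a, (maxEA_le_SL hA hAS ha).2⟩ v fun i => ?_
      show (d.Φ.ρ i ⟨a, _⟩).1 *ᵥ d.Φ.co i v = d.Φ.co i v
      rw [show d.Φ.ρ i ⟨a, (maxEA_le_SL hA hAS ha).2⟩ = _ from d.rho_eq_uSL (ι ⟨a, ha⟩) i, uSL_mulVec]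
      ext k; fin_cases k
      · by_cases hi : i ∈ supp
        · have h1 : d.Φ.co i v 1 = 0 := congrFun (congrArg Multiplicative.toAdd h) ⟨i, hi⟩
          simp [h1]
        · simp [hoff i hi ⟨a, ha⟩]
      · simp
    · intro h
      apply Multiplicative.toAdd.injective
      funext i
      show d.Φ.co i v 1 = 0
      obtain ⟨-, a, ha⟩ := Finset.mem_filter.mp i.2
      have e : cjv (Vp p X) (a : X) v = v := Subtype.ext (by
        rw [cjv_coe, mul_comm_of_isEA hA.1 a.2 h, mul_inv_cancel_right])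
      have h1 := d.co_comm_unip i ⟨a, (ι a).2.2⟩ v (d.rho_eq_uSL (ι a) i)
      rw [show ((⟨(a : X), (ι a).2.2⟩ : Ctx.Lp p X) : X) = (a : X) from rfl, e, mul_inv_cancel, Frame.co_one] at h1
      have h2 := (congrFun h1 0).symm
      simp at h2
      exact h2.resolve_left ha
  set B := (A ⊓ Cp p X) ⊔ Vp p X
  have hVC : Vp p X ≤ Cp p X := vp_le_Q.trans pCore_le_Cp
  have hAC : ∀ a ∈ A ⊓ Cp p X, ∀ v ∈ Vp p X, a * v = v * a := fun a ha v hv => (Subgroup.mem_centralizer_iff.mp ha.2 v hv).symm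
  have hB : IsElementaryAbelian p B := isEA_sup (isEA_le hA.1 inf_le_left) (omc_isEA _) hAC
  have hinf : (A ⊓ Cp p X) ⊓ Vp p X = A ⊓ Vp p X := by
    rw [inf_assoc, inf_eq_right.mpr hVC]
  have hcardA : Nat.card A = Nat.card ↥(A ⊓ Cp p X) * Nat.card f.range := by
    rw [← Subgroup.index_ker f, hkf, ← Nat.card_congr (Subgroup.subgroupOfEquivOfLe (inf_le_left : A ⊓ Cp p X ≤ A)).toEquiv,
      Subgroup.inf_subgroupOf_left, Subgroup.card_mul_index]
  have hcardV : Nat.card (Vp p X) = Nat.card ↥(A ⊓ Vp p X) * Nat.card (Multiplicative (∀ i : supp, F i)) := by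
    have h1 := Subgroup.card_mul_index g.ker
    rw [Subgroup.index_ker, MonoidHom.range_eq_top.mpr hg, Subgroup.card_top, hkg, ← Subgroup.inf_subgroupOf_right,
      Nat.card_congr (Subgroup.subgroupOfEquivOfLe (inf_le_right : A ⊓ Vp p X ≤ Vp p X)).toEquiv] at h1
    exact h1.symm
  have hcardB : Nat.card B = Nat.card ↥(A ⊓ Cp p X) * Nat.card (Multiplicative (∀ i : supp, F i)) := by
    have h1 := card_sup_mul_card_inf (N := A ⊓ Cp p X) (K := Vp p X) (fun v hv => Subgroup.mem_normalizer_iff.mpr fun a => by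
      constructor
      · intro ha; rwa [← hAC a ha v hv, mul_inv_cancel_right]
      · intro ha
        have h2 := hAC _ ha v hv
        have h3 : a = v * a * v⁻¹ := by
          calc a = v⁻¹ * (v * a * v⁻¹ * v) := by group
            _ = v⁻¹ * (v * (v * a * v⁻¹)) := by rw [h2]
            _ = _ := by group
        rwa [h3])
    rw [hinf, hcardV, mul_comm (Nat.card ↥(A ⊓ Vp p X)), ← mul_assoc] at h1
    exact Nat.eq_of_mul_eq_mul_right Nat.card_pos h1
  have hle := hA.2 B hB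
  have hfle : Nat.card f.range ≤ Nat.card (Multiplicative (∀ i : supp, F i)) := Subgroup.card_le_card_group _
  have heq : Nat.card (Multiplicative (∀ i : supp, F i)) ≤ Nat.card f.range := by
    rw [hcardA, hcardB] at hle
    exact Nat.le_of_mul_le_mul_left hle Nat.card_pos
  refine ⟨⟨hB, fun E hE => (hA.2 E hE).trans ?_⟩, fun i₀ a₀ ha₀ hne x => ?_⟩
  · rw [hcardA, hcardB]; exact Nat.mul_le_mul_left _ hfle
  · have htop : f.range = ⊤ := Subgroup.eq_top_of_card_eq _ (le_antisymm hfle heq)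
    have hi₀ : i₀ ∈ supp := Finset.mem_filter.mpr ⟨Finset.mem_univ _, ⟨a₀, ha₀⟩, hne⟩
    obtain ⟨a, ha⟩ := MonoidHom.range_eq_top.mp htop (Multiplicative.ofAdd fun i => (Pi.single i₀ x : ∀ i, F i) i)
    refine ⟨a, a.2, funext fun i => ?_⟩
    by_cases hi : i ∈ supp
    · exact congrFun (congrArg Multiplicative.toAdd ha) ⟨i, hi⟩
    · exact (hoff i hi a).trans (Pi.single_eq_of_ne (fun (e : i = i₀) => hi (e ▸ hi₀)) x).symm

theorem thompsonS_eq :
    thompsonSubgroupOf p (S : Subgroup X) = sSup {A | A ∈ maxElementaryAbelianSubgroups p X ∧ A ≤ (S : Subgroup X)} := by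
  obtain ⟨A₀, hA₀, hle⟩ := exists_maxEA_le_sylow S
  exact thompsonSubgroupOf_eq hA₀ hle

theorem thompsonS_le : thompsonSubgroupOf p (S : Subgroup X) ≤ (S : Subgroup X) ⊓ Ctx.Lp p X := by
  rw [thompsonS_eq]
  exact sSup_le fun A hA => maxEA_le_SL hA.1 hA.2

include d in
theorem sup_LS : Ctx.Lp p X ⊔ (S : Subgroup X) = ⊤ :=
  eq_top_iff.mpr (d.gen ▸ sup_le_sup_right le_sup_left _)

theorem exists_moving (i : Fin r) : ∃ (A : Subgroup X) (hA : A ∈ maxElementaryAbelianSubgroups p X) (hAS : A ≤ (S : Subgroup X))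
    (a : X) (ha : a ∈ A), Multiplicative.toAdd (d.coef ⟨a, maxEA_le_SL hA hAS ha⟩) i ≠ 0 := by
  classical
  by_contra hno
  push Not at hno
  haveI := Ctx.Lp_normal (p := p) (X := X)
  have hker : Ctx.Lp p X ≤ (d.Φ.ρ i).ker.map (Ctx.Lp p X).subtype := by
    refine sup_le (sSup_le fun A hA => ?_) fun c hc =>
      ⟨⟨c, Subgroup.mem_sup_right hc⟩, (d.mem_C_iff ⟨c, Subgroup.mem_sup_right hc⟩).mp hc i, rfl⟩
    obtain ⟨R, hR⟩ := (isPGroup_isEA hA.1).exists_le_sylow
    obtain ⟨g, hg⟩ := MulAction.exists_smul_eq X R S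
    intro a ha
    have hgm : g⁻¹ ∈ ((Ctx.Lp p X ⊔ (S : Subgroup X) : Subgroup X) : Set X) := by rw [d.sup_LS]; trivial
    rw [Subgroup.normal_mul] at hgm
    obtain ⟨l, hl, s, hs, he⟩ := hgm
    set A' : Subgroup X := A.map (MulAut.conj (s * g)).toMonoidHom
    have hA' : A' ∈ maxElementaryAbelianSubgroups p X := maxEA_map_equiv (MulAut.conj (s * g)) hA
    have hA'S : A' ≤ (S : Subgroup X) := by
      rintro _ ⟨b, hb, rfl⟩
      have h1 : g * b * g⁻¹ ∈ (S : Subgroup X) := by rw [← hg]; exact ⟨b, hR hb, rfl⟩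
      simpa [mul_assoc] using (S : Subgroup X).mul_mem ((S : Subgroup X).mul_mem hs h1) (inv_mem hs)
    have ha' : s * g * a * (s * g)⁻¹ ∈ A' := ⟨a, ha, rfl⟩
    have h2 := hno A' hA' hA'S _ ha'
    have h3 := d.rho_eq_uSL ⟨_, maxEA_le_SL hA' hA'S ha'⟩ i
    rw [h2] at h3
    have haL : a ∈ Ctx.Lp p X := Subgroup.mem_sup_left (Subgroup.mem_sSup_of_mem hA ha)
    refine ⟨⟨a, haL⟩, ?_, rfl⟩
    rw [SetLike.mem_coe, MonoidHom.mem_ker]
    have e : (⟨a, haL⟩ : Ctx.Lp p X) = ⟨l, hl⟩ * ⟨_, (maxEA_le_SL hA' hA'S ha').2⟩ * ⟨l, hl⟩⁻¹ := Subtype.ext (by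
      show a = l * (s * g * a * (s * g)⁻¹) * l⁻¹
      have e1 : l * (s * g) = 1 := by
        rw [← mul_assoc, show l * s = g⁻¹ from he, inv_mul_cancel]
      calc a = (l * (s * g)) * a * (l * (s * g))⁻¹ := by rw [e1]; group
        _ = _ := by group)
    rw [e, map_mul, map_mul, h3, ofAdd_zero, map_one, mul_one, ← map_mul, mul_inv_cancel, map_one]
  obtain ⟨l, hl⟩ := d.Φ.ρ_surj fun j => if e : j = i then e ▸ uSL (Multiplicative.ofAdd (1 : F i)) else 1
  obtain ⟨l', hl', he⟩ := hker l.2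
  have hm : d.Φ.ρ i l = 1 := by rw [← show l' = l from Subtype.ext he]; exact hl'
  rw [hl i, dif_pos rfl] at hm
  have h3 := congrArg (fun g : SL(2, F i) => g.1 0 1) hm
  simp only [uSL_coe] at h3
  simp at h3

/-- Every tuple is attained by `J(S)`. -/
theorem exists_thompson (c : ∀ i, F i) : ∃ (j : X) (hj : j ∈ thompsonSubgroupOf p (S : Subgroup X)),
    Multiplicative.toAdd (d.coef ⟨j, thompsonS_le hj⟩) = c := by
  classical
  suffices h : ((thompsonSubgroupOf p (S : Subgroup X)).subgroupOf ((S : Subgroup X) ⊓ Ctx.Lp p X)).map d.coef = ⊤ by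
    have hm : Multiplicative.ofAdd c ∈ (⊤ : Subgroup (Multiplicative (∀ i, F i))) := trivial
    rw [← h] at hm
    obtain ⟨s, hs, he⟩ := hm
    exact ⟨s, hs, congrArg Multiplicative.toAdd he⟩
  rw [eq_top_iff]
  intro w _
  have hw : w = ∏ i, Multiplicative.ofAdd (Pi.single i (Multiplicative.toAdd w i) : ∀ i, F i) := by
    rw [← ofAdd_sum, Finset.univ_sum_single, ofAdd_toAdd]
  rw [hw]
  refine prod_mem fun i _ => ?_
  obtain ⟨A, hA, hAS, a₀, ha₀, hne⟩ := d.exists_moving i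
  obtain ⟨a, ha, he⟩ := (d.offender hA hAS).2 i a₀ ha₀ hne (Multiplicative.toAdd w i)
  refine ⟨⟨a, maxEA_le_SL hA hAS ha⟩, ?_, Multiplicative.toAdd.injective he⟩
  show a ∈ thompsonSubgroupOf p (S : Subgroup X)
  rw [thompsonS_eq]
  exact mem_sSup_maxEA ⟨hA, hAS⟩ ha

/-- `Ω₁(Z(J(O_p(X))))`. -/
abbrev V1 (p : ℕ) (X : Type u) [Group X] : Subgroup X := omegaOneCenter p (thompsonSubgroupOf p (pCore p X))

theorem V1_normal : (V1 p X).Normal := by
  haveI : (thompsonSubgroupOf p (pCore p X)).Normal := by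
    rw [← Subgroup.normalizer_eq_top_iff, eq_top_iff]
    refine le_trans (le_of_eq ?_) (normalizer_le_normalizer_thompsonOf (pCore p X))
    exact (Subgroup.normalizer_eq_top_iff.mpr (LocalEven.SylowIn.pCore_normal X p)).symm
  exact omc_normal _

theorem V1_le_Q : V1 p X ≤ pCore p X := ((omc_le _).trans inf_le_left).trans (thompsonSubgroupOf_le _)

include d in
theorem thompsonQ_eq :
    thompsonSubgroupOf p (pCore p X) = sSup {A | A ∈ maxElementaryAbelianSubgroups p X ∧ A ≤ pCore p X} := by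
  obtain ⟨A, hA, hAS⟩ := exists_maxEA_le_sylow S
  exact thompsonSubgroupOf_eq (d.offender hA hAS).1
    (sup_le ((inf_le_inf_right _ hAS).trans d.sylow_inf_C_le) vp_le_Q)

include d in
theorem V_le_V1 : Vp p X ≤ V1 p X := by
  intro v hv
  have hc : ∀ y ∈ pCore p X, y * v = v * y := fun y hy => Subgroup.mem_centralizer_iff.mp (omc_le _ hv).2 y hy
  refine mem_omc ?_ (fun y hy => hc y (thompsonSubgroupOf_le _ hy)) (omc_pow _ hv)
  rw [d.thompsonQ_eq]
  obtain ⟨A, hA, hAS⟩ := exists_maxEA_le_sylow S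
  exact mem_sSup_maxEA
    ⟨(d.offender hA hAS).1, sup_le ((inf_le_inf_right _ hAS).trans d.sylow_inf_C_le) vp_le_Q⟩ (Subgroup.mem_sup_right hv)

include d in
/-- `[J(X), Ω₁(Z(J(Q)))] ≤ V`. -/
theorem comm_V1 {j w : X} (hj : j ∈ thompsonSubgroup p X) (hw : w ∈ V1 p X) : j * w * j⁻¹ * w⁻¹ ∈ Vp p X := by
  haveI := V1_normal (p := p) (X := X)
  let K : Subgroup X :=
    { carrier := {g | ∀ w ∈ V1 p X, g * w * g⁻¹ * w⁻¹ ∈ Vp p X}
      one_mem' := fun w _ => by simp [one_mem]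
      mul_mem' := fun {a b} ha hb w hw => by
        have h1 := mul_mem (ha _ ((inferInstance : (V1 p X).Normal).conj_mem w hw b)) (hb w hw)
        simpa [mul_assoc] using h1
      inv_mem' := fun {a} ha w hw => by
        have h1 := inv_mem (ha _ ((inferInstance : (V1 p X).Normal).conj_mem w hw a⁻¹))
        simpa [mul_assoc] using h1 }
  suffices h : thompsonSubgroup p X ≤ K from h hj w hw
  refine sSup_le fun A hA a ha => ?_
  obtain ⟨R, hR⟩ := (isPGroup_isEA hA.1).exists_le_sylow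
  obtain ⟨g, hg⟩ := MulAction.exists_smul_eq X R S
  set A' : Subgroup X := A.map (MulAut.conj g).toMonoidHom
  have hA' : A' ∈ maxElementaryAbelianSubgroups p X := maxEA_map_equiv (MulAut.conj g) hA
  have hA'S : A' ≤ (S : Subgroup X) := by rw [← hg]; exact Subgroup.map_mono hR
  have ha' : g * a * g⁻¹ ∈ A' := ⟨a, ha, rfl⟩
  obtain ⟨hB, -⟩ := d.offender hA' hA'S
  have hBQ : (A' ⊓ Cp p X) ⊔ Vp p X ≤ pCore p X := sup_le ((inf_le_inf_right _ hA'S).trans d.sylow_inf_C_le) vp_le_Q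
  have key : ∀ u ∈ V1 p X, g * a * g⁻¹ * u * (g * a * g⁻¹)⁻¹ * u⁻¹ ∈ Vp p X := by
    intro u hu
    have hmem : u ∈ (A' ⊓ Cp p X) ⊔ Vp p X := by
      refine mem_of_pow_eq_one_of_centralizes hB (Subgroup.mem_centralizer_iff.mpr fun b hb => ?_) (omc_pow _ hu)
      refine Subgroup.mem_centralizer_iff.mp (omc_le _ hu).2 b ?_
      rw [d.thompsonQ_eq]
      exact mem_sSup_maxEA ⟨hB, hBQ⟩ hb
    have hmem2 : u ∈ (((A' ⊓ Cp p X) ⊔ Vp p X : Subgroup X) : Set X) := hmem
    rw [Subgroup.mul_normal] at hmem2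
    obtain ⟨b, hb, v, hv, rfl⟩ := hmem2
    have hc : g * a * g⁻¹ * b = b * (g * a * g⁻¹) := mul_comm_of_isEA hA'.1 ha' (Subgroup.mem_inf.mp hb).1
    have hN : g * a * g⁻¹ * v * (g * a * g⁻¹)⁻¹ * v⁻¹ ∈ Vp p X :=
      mul_mem ((inferInstance : (Vp p X).Normal).conj_mem v hv _) (inv_mem hv)
    have h1 := (inferInstance : (Vp p X).Normal).conj_mem _ hN b
    have e : g * a * g⁻¹ * (b * v) * (g * a * g⁻¹)⁻¹ * (b * v)⁻¹ = b * (g * a * g⁻¹ * v * (g * a * g⁻¹)⁻¹ * v⁻¹) * b⁻¹ := by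
      calc _ = (g * a * g⁻¹ * b) * v * (g * a * g⁻¹)⁻¹ * (b * v)⁻¹ := by group
        _ = (b * (g * a * g⁻¹)) * v * (g * a * g⁻¹)⁻¹ * (b * v)⁻¹ := by rw [hc]
        _ = _ := by group
    rw [e]; exact h1
  intro w hw
  have h1 := (inferInstance : (Vp p X).Normal).conj_mem _ (key _ ((inferInstance : (V1 p X).Normal).conj_mem w hw g)) g⁻¹
  simpa [mul_assoc] using h1

/-- `Ω₁(Z(J(S)))` inside `↥S`. -/
abbrev Z0 (S : Sylow p X) : Subgroup ↥(S : Subgroup X) :=
  omegaOne p (thompsonSubgroup p ↥(S : Subgroup X) ⊓ Subgroup.centralizer (thompsonSubgroup p ↥(S : Subgroup X) : Set ↥(S : Subgroup X)))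

/-- `Ω₁(Z(J(S)))`. -/
abbrev Z (S : Sylow p X) : Subgroup X := (Z0 S).map (S : Subgroup X).subtype

/-- `C_S(Ω₁(Z(J(S))))` inside `↥S`. -/
abbrev B0 (S : Sylow p X) : Subgroup ↥(S : Subgroup X) := Subgroup.centralizer (Z0 S : Set ↥(S : Subgroup X))

/-- `C_S(Ω₁(Z(J(S))))`. -/
abbrev B (S : Sylow p X) : Subgroup X := (B0 S).map (S : Subgroup X).subtype

theorem Z0_char : (Z0 S).Characteristic := by
  haveI : (thompsonSubgroup p ↥(S : Subgroup X) ⊓
      Subgroup.centralizer (thompsonSubgroup p ↥(S : Subgroup X) : Set ↥(S : Subgroup X))).Characteristic :=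
    Subgroup.characteristic_iff_map_eq.mpr fun e => by
      rw [Subgroup.map_inf _ _ _ e.injective, Subgroup.characteristic_iff_map_eq.mp inferInstance e,
        Subgroup.characteristic_iff_map_eq.mp inferInstance e]
  exact omegaOne_characteristic p _

theorem B0_char : (B0 S).Characteristic := by
  haveI := Z0_char (S := S)
  infer_instance

theorem mem_B_iff {x : X} : x ∈ B S ↔ x ∈ (S : Subgroup X) ∧ ∀ z ∈ Z S, z * x = x * z := by
  constructor
  · rintro ⟨y, hy, rfl⟩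
    exact ⟨y.2, fun z ⟨z', hz', e⟩ => e ▸ congrArg Subtype.val (Subgroup.mem_centralizer_iff.mp hy z' hz')⟩
  · rintro ⟨hx, h⟩
    exact ⟨⟨x, hx⟩, Subgroup.mem_centralizer_iff.mpr fun z hz => Subtype.ext (h z ⟨z, hz, rfl⟩), rfl⟩

theorem mem_Z_iff {x : X} : x ∈ Z S ↔ x ∈ thompsonSubgroupOf p (S : Subgroup X) ∧
    (∀ j ∈ thompsonSubgroupOf p (S : Subgroup X), j * x = x * j) ∧ x ^ p = 1 := by
  constructor
  · rintro ⟨y, hy, rfl⟩
    have h1 := omegaOne_le _ hy
    refine ⟨⟨y, h1.1, rfl⟩, fun j ⟨j', hj', e⟩ => e ▸ congrArg Subtype.val (Subgroup.mem_centralizer_iff.mp h1.2 j' hj'), ?_⟩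
    induction hy using Subgroup.closure_induction with
    | mem z hz => exact congrArg Subtype.val hz.2
    | one => exact one_pow p
    | mul a b ha hb ia ib =>
      have hc : Commute (a : X) (b : X) :=
        congrArg Subtype.val (Subgroup.mem_centralizer_iff.mp (omegaOne_le _ hb).2 a (omegaOne_le _ ha).1)
      show ((a : X) * b) ^ p = 1
      rw [hc.mul_pow]
      show (a : X) ^ p * (b : X) ^ p = 1
      rw [show (a : X) ^ p = 1 from ia (omegaOne_le _ ha), show (b : X) ^ p = 1 from ib (omegaOne_le _ hb), one_mul]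
    | inv a ha ia =>
      show ((a : X)⁻¹) ^ p = 1
      rw [inv_pow, show (a : X) ^ p = 1 from ia (omegaOne_le _ ha), inv_one]
  · rintro ⟨⟨y, hy, rfl⟩, hc, hpow⟩
    refine ⟨y, Subgroup.subset_closure ⟨⟨hy, Subgroup.mem_centralizer_iff.mpr fun j hj => Subtype.ext (hc j ⟨j, hj, rfl⟩)⟩,
      Subtype.ext hpow⟩, rfl⟩

include d in
theorem J_le_Q_part : thompsonSubgroupOf p (pCore p X) ≤ thompsonSubgroupOf p (S : Subgroup X) := by
  rw [d.thompsonQ_eq, thompsonS_eq]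
  exact sSup_le_sSup fun A hA => ⟨hA.1, hA.2.trans (Solvable.Cores.pCore_le_sylow S)⟩

include d in
theorem Z_le_V1 : Z S ≤ V1 p X := by
  intro z hz
  obtain ⟨hz1, hzc, hzp⟩ := mem_Z_iff.mp hz
  obtain ⟨A, hA, hAS⟩ := exists_maxEA_le_sylow S
  obtain ⟨hB, -⟩ := d.offender hA hAS
  have hBQ : (A ⊓ Cp p X) ⊔ Vp p X ≤ pCore p X := sup_le ((inf_le_inf_right _ hAS).trans d.sylow_inf_C_le) vp_le_Q
  have hcB : z ∈ (A ⊓ Cp p X) ⊔ Vp p X :=
    mem_of_pow_eq_one_of_centralizes hB (Subgroup.mem_centralizer_iff.mpr fun b hb => hzc b (by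
      rw [thompsonS_eq]
      exact mem_sSup_maxEA ⟨hB, hBQ.trans (Solvable.Cores.pCore_le_sylow S)⟩ hb)) hzp
  refine mem_omc ?_ (fun y hy => hzc y (d.J_le_Q_part hy)) hzp
  rw [d.thompsonQ_eq]
  exact mem_sSup_maxEA ⟨hB, hBQ⟩ hcB

/-- `V ∩ Ω₁(Z(J(S)))`. -/
theorem mem_Z_of_vp (v : Vp p X) : (v : X) ∈ Z S ↔ ∀ i, d.Φ.co i v 1 = 0 := by
  constructor
  · intro h i
    classical
    obtain ⟨j, hj, he⟩ := d.exists_thompson (Pi.single i 1)
    have e : cjv (Vp p X) j v = v := Subtype.ext (by rw [cjv_coe, (mem_Z_iff.mp h).2.1 j hj, mul_inv_cancel_right])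
    have h1 := d.co_comm_unip i ⟨j, (thompsonS_le hj).2⟩ v (d.rho_eq_uSL ⟨j, thompsonS_le hj⟩ i)
    rw [show ((⟨j, (thompsonS_le hj).2⟩ : Ctx.Lp p X) : X) = j from rfl, e, mul_inv_cancel, Frame.co_one, he,
      Pi.single_eq_same, one_mul] at h1
    simpa using (congrFun h1 0).symm
  · intro h
    have hc := (d.second_eq_zero_iff v).mp h
    refine mem_Z_iff.mpr ⟨d.J_le_Q_part ((omc_le _ (d.V_le_V1 v.2)).1), fun j hj => hc j (thompsonS_le hj), omc_pow _ v.2⟩

include d in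
theorem B_le_L : B S ≤ (S : Subgroup X) ⊓ Ctx.Lp p X := by
  intro x hx
  obtain ⟨hxS, hxc⟩ := mem_B_iff.mp hx
  exact ⟨hxS, d.mem_L_of_fix hxS fun v hv => (hxc v ((d.mem_Z_of_vp v).mpr hv)).symm⟩

theorem thompsonS_le_B : thompsonSubgroupOf p (S : Subgroup X) ≤ B S := fun j hj =>
  mem_B_iff.mpr ⟨thompsonSubgroupOf_le _ hj, fun z hz => ((mem_Z_iff.mp hz).2.1 j hj).symm⟩

/-- `V Ω₁(Z(J(S)))`. -/
abbrev U1 (S : Sylow p X) : Subgroup X := Vp p X ⊔ Z S

/-- `C_Q(V Ω₁(Z(J(S))))`. -/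
abbrev O (S : Sylow p X) : Subgroup X := pCore p X ⊓ Subgroup.centralizer (U1 S : Set X)

include d in
theorem U1_le_V1 : U1 S ≤ V1 p X := sup_le d.V_le_V1 d.Z_le_V1

include d in
theorem U1_normal : (U1 S).Normal := by
  rw [← Subgroup.normalizer_eq_top_iff, eq_top_iff, ← d.gen]
  refine sup_le ?_ ?_
  · refine le_normalizer_of_map_conj fun j hj => ?_
    have hle : ∀ j ∈ thompsonSubgroup p X, (U1 S).map (MulAut.conj j).toMonoidHom ≤ U1 S := by
      intro j hj
      rw [Subgroup.map_le_iff_le_comap]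
      refine sup_le (fun v hv => Subgroup.mem_sup_left ((inferInstance : (Vp p X).Normal).conj_mem v hv j)) fun z hz => ?_
      show j * z * j⁻¹ ∈ U1 S
      have h1 := d.comm_V1 hj (d.Z_le_V1 hz)
      have h2 := mul_mem (Subgroup.mem_sup_left h1 : j * z * j⁻¹ * z⁻¹ ∈ U1 S) (Subgroup.mem_sup_right hz)
      rwa [inv_mul_cancel_right] at h2
    exact Subgroup.eq_of_le_of_card_ge (hle j hj) (by rw [Subgroup.card_map_of_injective (MulAut.conj j).injective])
  · haveI := Z0_char (S := S)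
    intro s hs
    rw [Subgroup.mem_normalizer_iff]
    have hN : s ∈ Subgroup.normalizer (Z S : Set X) :=
      OddOrder.PStable.normalizer_le_normalizer_map (S : Subgroup X) (Z0 S) (Subgroup.le_normalizer hs)
    have hfwd : ∀ s ∈ (S : Subgroup X), s ∈ Subgroup.normalizer (Z S : Set X) → ∀ y ∈ U1 S, s * y * s⁻¹ ∈ U1 S := by
      intro s _ hN y hy
      have h : U1 S ≤ (U1 S).comap (MulAut.conj s).toMonoidHom :=
        sup_le (fun v hv => Subgroup.mem_sup_left ((inferInstance : (Vp p X).Normal).conj_mem v hv s))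
          fun z hz => Subgroup.mem_sup_right ((Subgroup.mem_normalizer_iff.mp hN z).mp hz)
      exact h hy
    exact fun y => ⟨hfwd s hs hN y, fun h => by
      simpa [mul_assoc] using hfwd s⁻¹ (inv_mem hs) (inv_mem hN) _ h⟩

include d in
theorem O_normal : (O S).Normal := by
  haveI := d.U1_normal
  haveI := LocalEven.SylowIn.pCore_normal X p
  infer_instance

include d in
theorem U1_le_O : U1 S ≤ O S := fun u hu => ⟨V1_le_Q (d.U1_le_V1 hu), Subgroup.mem_centralizer_iff.mpr fun w hw =>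
  mul_comm_of_isEA (omc_isEA _) (d.U1_le_V1 hw) (d.U1_le_V1 hu)⟩

theorem mem_O_iff {x : X} : x ∈ O S ↔ x ∈ pCore p X ∧ ∀ z ∈ Z S, z * x = x * z := by
  refine ⟨fun h => ⟨h.1, fun z hz => Subgroup.mem_centralizer_iff.mp h.2 z (Subgroup.mem_sup_right hz)⟩, fun ⟨hx, hz⟩ => ⟨hx, ?_⟩⟩
  have h : U1 S ≤ Subgroup.centralizer {x} := sup_le
    (fun v hv => Subgroup.mem_centralizer_singleton_iff.mpr (Subgroup.mem_centralizer_iff.mp (omc_le _ hv).2 x hx).symm)
    (fun z h => Subgroup.mem_centralizer_singleton_iff.mpr (hz z h))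
  exact Subgroup.mem_centralizer_iff.mpr fun u hu => Subgroup.mem_centralizer_singleton_iff.mp (h hu)

theorem O_le_B : O S ≤ B S := fun _ hx =>
  mem_B_iff.mpr ⟨Solvable.Cores.pCore_le_sylow S hx.1, (mem_O_iff.mp hx).2⟩

include d in
theorem centralizer_O_le : Subgroup.centralizer (O S : Set X) ≤ O S := by
  haveI := d.O_normal
  haveI := LocalEven.SylowIn.pCore_normal X p
  set Q := pCore p X
  have hQp : IsPGroup p Q := Solvable.Cores.isPGroup_pCore p
  have key : ∀ g ∈ Subgroup.centralizer (O S : Set X), (orderOf g).Coprime p → g = 1 := by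
    intro g hg hcop
    have hgQ : g ∈ Subgroup.centralizer (Q : Set X) := Subgroup.mem_centralizer_iff.mpr fun q hq => by
      set c := g * q * g⁻¹ * q⁻¹
      have hcQ : c ∈ Q := Q.mul_mem ((inferInstance : Q.Normal).conj_mem q hq g) (inv_mem hq)
      have hcO : c ∈ Subgroup.centralizer (O S : Set X) := Subgroup.mem_centralizer_iff.mpr fun w hw => by
        have hw' : q⁻¹ * w * q ∈ O S := by simpa using (inferInstance : (O S).Normal).conj_mem w hw q⁻¹
        have e1 := Subgroup.mem_centralizer_iff.mp hg _ hw'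
        have e2 := Subgroup.mem_centralizer_iff.mp hg w hw
        calc w * c = (w * g) * q * g⁻¹ * q⁻¹ := by simp only [c]; group
          _ = (g * w) * q * g⁻¹ * q⁻¹ := by rw [e2]
          _ = g * q * ((q⁻¹ * w * q) * g⁻¹) * q⁻¹ := by group
          _ = g * q * (g⁻¹ * (g * (q⁻¹ * w * q)) * g⁻¹) * q⁻¹ := by group
          _ = g * q * (g⁻¹ * ((q⁻¹ * w * q) * g) * g⁻¹) * q⁻¹ := by rw [e1]
          _ = _ := by simp only [c]; group
      have hcmem : c ∈ O S := ⟨hcQ, Subgroup.centralizer_le (SetLike.coe_subset_coe.mpr d.U1_le_O) hcO⟩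
      have hc1 : c = 1 := LocalEvenB.PushingUp.fixed_of_step (u := q) (by simp [c])
        (Subgroup.mem_centralizer_iff.mp hg c hcmem).symm hcop (by
          obtain ⟨k, hk⟩ := hQp ⟨c, hcQ⟩
          exact ⟨k, congrArg Subtype.val hk⟩)
      have h2 : g * q * g⁻¹ * q⁻¹ = 1 := hc1
      rw [mul_inv_eq_one, mul_inv_eq_iff_eq_mul] at h2
      exact h2.symm
    obtain ⟨k, hk⟩ := hQp ⟨g, d.ctx.con hgQ⟩
    exact KGroups.CharP.eq_one_of_pow_coprime hcop (pow_orderOf_eq_one g) (k := k) (congrArg Subtype.val hk)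
  have hp : IsPGroup p (Subgroup.centralizer (O S : Set X)) := fun g => by
    refine ⟨(orderOf (g : X)).factorization p, Subtype.ext (key _ (pow_mem g.2 _) ?_)⟩
    have hd : p ^ (orderOf (g : X)).factorization p ∣ orderOf (g : X) := Nat.ordProj_dvd _ _
    rw [SubmonoidClass.coe_pow, orderOf_pow, Nat.gcd_eq_right hd]
    exact (Nat.coprime_ordCompl Fact.out (orderOf_pos _).ne').symm
  intro g hg
  exact ⟨LocalEven.SylowIn.le_pCore hp hg, Subgroup.centralizer_le (SetLike.coe_subset_coe.mpr d.U1_le_O) hg⟩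

end Data

end CfsgLib.CharTransfer
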