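import Cfsg.Agent.Lib.CharTransfer.Setup
import Cfsg.Agent.Lib.LocalEvenB.PushingUp
import Cfsg.Agent.Lib.KGroups.CharP

/-!
Coordinates on the module: an element of `S` centralizing the fixed points of `S ∩ L` lies in `L`.
-/

set_option autoImplicit false
set_option linter.unusedSectionVars false

namespace CfsgLib.CharTransfer

open Cfsg Matrix CfsgLib.Classical CfsgLib.LocalEven.MovesFixed CfsgLib.LocalEven.SylowIn
open scoped MatrixGroups commutatorElement

universe u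

variable {X : Type u} [Group X] [Finite X] {p : ℕ} [Fact p.Prime]

/-- A minimal configuration with coordinates. -/
structure Data (S : Sylow p X) (M : Subgroup X) [(Vp p X).Normal] {r : ℕ} (F : Fin r → Type) [∀ i, Field (F i)] where
  ctx : Ctx S M
  Φ : Frame (Vp p X) (Ctx.Lp p X) F
  unip : Unip S Φ
  gen : thompsonSubgroup p X ⊔ (S : Subgroup X) = ⊤

/-- An element of order prime to `p` lies in a normal subgroup that covers `X` with a `p`-subgroup. -/
theorem mem_of_coprime_of_sup_eq_top {N P : Subgroup X} [N.Normal] (hP : IsPGroup p P) (htop : N ⊔ P = ⊤) {g : X}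
    (hg : (orderOf g).Coprime p) : g ∈ N := by
  have hmap : P.map (QuotientGroup.mk' N) = ⊤ := by
    rw [← Subgroup.map_top_of_surjective _ (QuotientGroup.mk'_surjective N), ← htop, Subgroup.map_sup,
      (Subgroup.map_eq_bot_iff _).mpr (QuotientGroup.ker_mk' N).ge, bot_sup_eq]
  obtain ⟨k, hk⟩ := (hmap ▸ hP.map (QuotientGroup.mk' N) : IsPGroup p (⊤ : Subgroup (X ⧸ N))) ⟨QuotientGroup.mk' N g, trivial⟩
  have h1 : QuotientGroup.mk' N g = 1 := KGroups.CharP.eq_one_of_pow_coprime (n := orderOf g) hg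
    (by rw [← map_pow, pow_orderOf_eq_one, map_one]) (k := k) (congrArg Subtype.val hk)
  rwa [← QuotientGroup.ker_mk' N, MonoidHom.mem_ker]

variable {S : Sylow p X} {M : Subgroup X} [(Vp p X).Normal] {r : ℕ} {F : Fin r → Type} [∀ i, Field (F i)]
  [∀ i, CharP (F i) p] (d : Data S M F)

namespace Data

include d in
theorem Q_le_S : pCore p X ≤ (S : Subgroup X) := Solvable.Cores.pCore_le_sylow S

include d in
theorem sylow_inf_le (N : Subgroup X) [N.Normal] (hN : N ≤ M) : (S : Subgroup X) ⊓ N ≤ pCore p X :=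
  LocalEvenB.PushingUp.frattini_step ⟨S, rfl⟩ (fun K hK hp => by haveI := hK; exact LocalEven.SylowIn.le_pCore hp)
    (fun H hSH hH => (d.ctx.eq_top_or_le hSH).resolve_right hH) d.ctx.ne N hN

include d in
theorem two_ne (i : Fin r) : (2 : F i) ≠ 0 := by
  intro h
  have h2 : ((2 : ℕ) : F i) = 0 := by exact_mod_cast h
  rw [CharP.cast_eq_zero_iff (F i) p] at h2
  exact d.ctx.hp ((Nat.prime_dvd_prime_iff_eq Fact.out Nat.prime_two).mp h2)

theorem mem_C_iff (l : Ctx.Lp p X) : (l : X) ∈ Cp p X ↔ ∀ i, d.Φ.ρ i l = 1 :=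
  ⟨fun h i => d.Φ.rho_eq_one_of_mem_centralizer h i, fun h => d.Φ.mem_centralizer_of_rho_eq_one h⟩

include d in
theorem r_pos : Nonempty (Fin r) := by
  by_contra hr
  refine d.ctx.ne (eq_top_iff.mpr (d.gen ▸ sup_le ?_ d.ctx.le_M))
  intro j hj
  exact d.ctx.C_le ((d.mem_C_iff ⟨j, Subgroup.mem_sup_left hj⟩).mpr fun i => absurd ⟨i⟩ hr)

theorem exists_coef (s : Ctx.Lp p X) (hs : (s : X) ∈ (S : Subgroup X)) :
    ∃ c : ∀ i, F i, ∀ i, d.Φ.ρ i s = uSL (Multiplicative.ofAdd (c i)) := by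
  choose c hc using fun i => mem_unipSL_iff.mp (d.unip.unip s hs i)
  exact ⟨c, hc⟩

theorem co_comm (i : Fin r) (l : Ctx.Lp p X) (v : Vp p X) :
    d.Φ.co i (cjv (Vp p X) (l : X) v * v⁻¹) = (d.Φ.ρ i l).1 *ᵥ d.Φ.co i v - d.Φ.co i v := by
  rw [Frame.co_mul, Frame.co_inv, Frame.co_cjv, sub_eq_add_neg]

theorem co_comm_unip (i : Fin r) (l : Ctx.Lp p X) (v : Vp p X) {c : F i} (hc : d.Φ.ρ i l = uSL (Multiplicative.ofAdd c)) :
    d.Φ.co i (cjv (Vp p X) (l : X) v * v⁻¹) = ![c * d.Φ.co i v 1, 0] := by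
  rw [co_comm, hc, uSL_mulVec]
  ext a; fin_cases a <;> simp

/-- The vectors fixed by `S ∩ L`. -/
theorem second_eq_zero_iff (v : Vp p X) :
    (∀ i, d.Φ.co i v 1 = 0) ↔ ∀ s ∈ (S : Subgroup X) ⊓ Ctx.Lp p X, s * v = v * s := by
  constructor
  · rintro h s ⟨hsS, hsL⟩
    obtain ⟨c, hc⟩ := d.exists_coef ⟨s, hsL⟩ hsS
    refine d.Φ.fixed ⟨s, hsL⟩ v fun i => ?_
    show (d.Φ.ρ i ⟨s, hsL⟩).1 *ᵥ d.Φ.co i v = d.Φ.co i v
    rw [hc i, uSL_mulVec]
    ext a; fin_cases a <;> simp [h i]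
  · intro h i
    classical
    obtain ⟨s, hsS, hs⟩ := d.unip.lift fun j => if e : j = i then e ▸ (1 : F i) else 0
    have e : cjv (Vp p X) (s : X) v = v := Subtype.ext (by rw [cjv_coe, h s ⟨hsS, s.2⟩, mul_inv_cancel_right])
    have h1 := d.co_comm_unip i s v (hs i)
    rw [e, mul_inv_cancel, Frame.co_one, dif_pos rfl] at h1
    simpa using (congrFun h1 0).symm

theorem co_eq_zero_iff (v : Vp p X) :
    (∀ i, d.Φ.co i v = 0) ↔ (v : X) ∈ Subgroup.centralizer (Ctx.Lp p X : Set X) := by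
  constructor
  · intro h
    refine Subgroup.mem_centralizer_iff.mpr fun l hl => d.Φ.fixed ⟨l, hl⟩ v fun i => ?_
    show _ *ᵥ d.Φ.co i v = d.Φ.co i v
    rw [h i, Matrix.mulVec_zero]
  · intro h i
    have h1 := (d.second_eq_zero_iff v).mpr fun s hs => Subgroup.mem_centralizer_iff.mp h s hs.2
    obtain ⟨w, hw⟩ := d.Φ.ρ_surj fun i => ⟨!![0, 1; -1, 0], by simp [Matrix.det_fin_two]⟩
    have e : cjv (Vp p X) (w : X) v = v := Subtype.ext (by
      rw [cjv_coe, Subgroup.mem_centralizer_iff.mp h w w.2, mul_inv_cancel_right])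
    have h2 := d.Φ.co_cjv i w v
    rw [e, hw i] at h2
    have h3 := congrFun h2 0
    simp [Matrix.mulVec, dotProduct, Fin.sum_univ_two, h1 i] at h3
    ext a; fin_cases a
    · exact h3
    · exact h1 i

/-- Elements acting trivially in the coordinates and on the vectors centralized by `L`. -/
def sigma (_d : Data S M F) : Subgroup X where
  carrier := {g | (∀ v : Vp p X, (v : X) ∈ Subgroup.centralizer (Ctx.Lp p X : Set X) → g * v = v * g) ∧
    ∀ v : Vp p X, ((cjv (Vp p X) g v * v⁻¹ : Vp p X) : X) ∈ Subgroup.centralizer (Ctx.Lp p X : Set X)}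
  one_mem' := ⟨fun v _ => by simp, fun v => by simp [one_mem]⟩
  mul_mem' := by
    rintro a b ⟨ha1, ha2⟩ ⟨hb1, hb2⟩
    refine ⟨fun v hv => by rw [mul_assoc, hb1 v hv, ← mul_assoc, ha1 v hv, mul_assoc], fun v => ?_⟩
    have h1 := mul_mem (ha2 (cjv (Vp p X) b v)) (hb2 v)
    rw [← Subgroup.coe_mul] at h1
    rwa [mul_assoc, ← mul_assoc (cjv (Vp p X) b v)⁻¹, inv_mul_cancel, one_mul, ← cjv_mul] at h1
  inv_mem' := by
    rintro a ⟨ha1, ha2⟩
    refine ⟨fun v hv => ?_, fun v => ?_⟩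
    · calc a⁻¹ * (v : X) = a⁻¹ * (v * a) * a⁻¹ := by group
        _ = a⁻¹ * (a * v) * a⁻¹ := by rw [ha1 v hv]
        _ = _ := by group
    · have h1 := inv_mem (ha2 (cjv (Vp p X) a⁻¹ v))
      rw [← cjv_mul, mul_inv_cancel, ← Subgroup.coe_inv, _root_.mul_inv_rev, inv_inv] at h1
      rwa [show cjv (Vp p X) (1 : X) v = v from Subtype.ext (by simp)] at h1

instance sigma_normal : d.sigma.Normal := by
  refine ⟨fun g hg k => ⟨fun v hv => ?_, fun v => ?_⟩⟩
  · haveI := Ctx.Lp_normal (p := p) (X := X)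
    have h1 : k⁻¹ * (v : X) * k ∈ Subgroup.centralizer (Ctx.Lp p X : Set X) := by
      simpa using (inferInstance : (Subgroup.centralizer (Ctx.Lp p X : Set X)).Normal).conj_mem _ hv k⁻¹
    have h2 := hg.1 (cjv (Vp p X) k⁻¹ v) (by simpa using h1)
    rw [cjv_coe, inv_inv] at h2
    calc k * g * k⁻¹ * v = k * (g * (k⁻¹ * v * k)) * k⁻¹ := by group
      _ = k * (k⁻¹ * v * k * g) * k⁻¹ := by rw [h2]
      _ = _ := by group
  · haveI := Ctx.Lp_normal (p := p) (X := X)
    have h1 := (inferInstance : (Subgroup.centralizer (Ctx.Lp p X : Set X)).Normal).conj_mem _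
      (hg.2 (cjv (Vp p X) k⁻¹ v)) k
    simpa [mul_assoc] using h1

include d in
theorem sigma_le : d.sigma ≤ M := by
  by_contra hle
  have htop : d.sigma ⊔ (S : Subgroup X) = ⊤ :=
    (d.ctx.eq_top_or_le le_sup_right).resolve_right fun h => hle (le_sup_left.trans h)
  obtain ⟨i⟩ := d.r_pos
  obtain ⟨l, hl⟩ := d.Φ.ρ_surj fun i => (⟨-1, by simp [Matrix.det_neg]⟩ : SL(2, F i))
  set n := p ^ (orderOf (l : X)).factorization p
  have hn : Odd n := d.ctx.odd.pow
  have hcop : (orderOf ((l : X) ^ n)).Coprime p := by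
    rw [orderOf_pow]
    have hd : n ∣ orderOf (l : X) := Nat.ordProj_dvd _ _
    rw [Nat.gcd_eq_right hd]
    exact (Nat.coprime_ordCompl Fact.out (orderOf_pos _).ne').symm
  have hmem := mem_of_coprime_of_sup_eq_top S.2 htop hcop
  obtain ⟨v, hv⟩ := d.Φ.Ψ_surj fun _ => ![1, 0]
  have h1 := (d.co_eq_zero_iff _).mpr (hmem.2 v) i
  rw [show ((l : X) ^ n) = ((l ^ n : Ctx.Lp p X) : X) from (SubmonoidClass.coe_pow l n).symm, co_comm, map_pow] at h1
  rw [show d.Φ.co i v = ![1, 0] from hv i] at h1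
  have h2 : ((d.Φ.ρ i l) ^ n).1 = (-1 : Matrix (Fin 2) (Fin 2) (F i)) := by
    show (d.Φ.ρ i l).1 ^ n = -1
    rw [hl i]
    exact hn.neg_one_pow
  rw [h2, Matrix.neg_mulVec, Matrix.one_mulVec] at h1
  have h3 := congrFun h1 0
  simp at h3
  exact d.two_ne i (by linear_combination -h3)

theorem cjv_cjv_inv (g : X) (w : Vp p X) : cjv (Vp p X) g (cjv (Vp p X) g⁻¹ w) = w := by
  rw [← cjv_mul, mul_inv_cancel]; exact Subtype.ext (by simp)

/-- An element of `S` centralizing the vectors fixed by `S ∩ L` lies in `L`. -/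
theorem mem_L_of_fix {s : X} (hs : s ∈ (S : Subgroup X))
    (hfix : ∀ v : Vp p X, (∀ i, d.Φ.co i v 1 = 0) → s * v = v * s) : s ∈ Ctx.Lp p X := by
  classical
  haveI := Ctx.Lp_normal (p := p) (X := X)
  set σ : Vp p X → Vp p X := cjv (Vp p X) s
  have hfixed : ∀ v : Vp p X, (∀ i, d.Φ.co i v 1 = 0) → σ v = v := fun v hv =>
    Subtype.ext (by rw [cjv_coe, hfix v hv, mul_inv_cancel_right])
  have hlam : ∀ i (v : Vp p X), d.Φ.co i (σ v) 1 = d.Φ.co i v 1 := by
    intro i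
    obtain ⟨t, htS, ht⟩ := d.unip.lift (Pi.single i 1)
    set t' : Ctx.Lp p X := ⟨s * t * s⁻¹, Subgroup.Normal.conj_mem inferInstance _ t.2 s⟩
    obtain ⟨c, hc⟩ := d.exists_coef t' ((S : Subgroup X).mul_mem ((S : Subgroup X).mul_mem hs htS) (inv_mem hs))
    have hrel : ∀ v : Vp p X, c i * d.Φ.co i (σ v) 1 = d.Φ.co i v 1 := by
      intro v
      have he : σ (cjv (Vp p X) (t : X) v * v⁻¹) = cjv (Vp p X) (t : X) v * v⁻¹ := hfixed _ fun j => by
        rw [d.co_comm_unip j t v (ht j)]; simp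
      have he2 : cjv (Vp p X) (t' : X) (σ v) * (σ v)⁻¹ = σ (cjv (Vp p X) (t : X) v * v⁻¹) :=
        Subtype.ext (by simp [σ, t', mul_assoc])
      have h1 := d.co_comm_unip i t' (σ v) (hc i)
      rw [he2, he, d.co_comm_unip i t v (ht i), Pi.single_eq_same, one_mul] at h1
      simpa using (congrFun h1 0).symm
    have hpow : ∀ n : ℕ, ∀ v : Vp p X, c i ^ n * d.Φ.co i (cjv (Vp p X) (s ^ n) v) 1 = d.Φ.co i v 1 := by
      intro n
      induction n with
      | zero =>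
        intro v
        rw [pow_zero, pow_zero, one_mul, show cjv (Vp p X) (1 : X) v = v from Subtype.ext (by simp)]
      | succ n ih =>
        intro v
        rw [pow_succ' s, cjv_mul, pow_succ, mul_assoc, hrel]
        exact ih v
    obtain ⟨k, hk⟩ := S.2 ⟨s, hs⟩
    obtain ⟨v, hv⟩ := d.Φ.Ψ_surj fun j => if e : j = i then e ▸ ![(0 : F i), 1] else 0
    have h1 := hpow (p ^ k) v
    rw [show s ^ p ^ k = 1 from congrArg Subtype.val hk,
      show cjv (Vp p X) (1 : X) v = v from Subtype.ext (by simp),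
      show d.Φ.co i v = ![(0 : F i), 1] from (hv i).trans (by simp)] at h1
    simp at h1
    have hc1 : c i = 1 := by
      have h3 : (c i - 1) ^ p ^ k = 0 := by rw [sub_pow_char_pow, h1, one_pow, sub_self]
      exact sub_eq_zero.mp (eq_zero_of_pow_eq_zero h3)
    exact fun v => by simpa [hc1] using hrel v
  -- the first coordinate of the displacement
  let th : ∀ j, Vp p X → F j := fun j v => d.Φ.co j (σ v) 0 - d.Φ.co j v 0
  have hth_mul : ∀ j v w, th j (v * w) = th j v + th j w := fun j v w => by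
    simp only [th, σ, cjv_map_mul, Frame.co_mul, Pi.add_apply]; ring
  have hco : ∀ j v, d.Φ.co j (σ v) = d.Φ.co j v + ![th j v, 0] := fun j v => by
    ext a; fin_cases a
    · simp [th]
    · simpa using hlam j v
  have hth_congr : ∀ j (v w : Vp p X), (∀ i, d.Φ.co i v 1 = d.Φ.co i w 1) → th j v = th j w := by
    intro j v w h
    have e : σ (v * w⁻¹) = v * w⁻¹ := hfixed _ fun i => by simp [Frame.co_mul, Frame.co_inv, h i]
    have h1 : th j (v * w⁻¹) = 0 := by simp [th, e]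
    have h2 := hth_mul j (v * w⁻¹) w
    rw [inv_mul_cancel_right, h1, zero_add] at h2
    exact h2
  have hsingle : ∀ i₀, ∃ k : F i₀, ∀ (x : F i₀) (w : Vp p X), (∀ i, d.Φ.co i w 1 = (Pi.single i₀ x : ∀ i, F i) i) →
      th i₀ w = k * x ∧ ∀ j, j ≠ i₀ → th j w = 0 := by
    intro i₀
    obtain ⟨l, hl, hl1⟩ : ∃ l, (d.Φ.ρ i₀ l).1 = !![1, 0; 1, 1] ∧ ∀ j, j ≠ i₀ → d.Φ.ρ j l = 1 := by
      let g : SL(2, F i₀) := ⟨!![1, 0; 1, 1], by simp [Matrix.det_fin_two]⟩
      obtain ⟨l, hl⟩ := d.Φ.ρ_surj (Pi.mulSingle i₀ g)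
      refine ⟨l, ?_, fun j hj => (hl j).trans (Pi.mulSingle_eq_of_ne (M := fun i => SL(2, F i)) hj g)⟩
      rw [(hl i₀).trans (Pi.mulSingle_eq_same (M := fun i => SL(2, F i)) i₀ g)]
    set m : Ctx.Lp p X := ⟨s * l * s⁻¹, Subgroup.Normal.conj_mem inferInstance _ l.2 s⟩
    refine ⟨(d.Φ.ρ i₀ m).1 0 0 - 1, fun x w hw => ?_⟩
    obtain ⟨v, hv⟩ := d.Φ.Ψ_surj fun i => ![(Pi.single i₀ x : ∀ i, F i) i, 0]
    have hσv : σ v = v := hfixed v fun i => by rw [show d.Φ.co i v = _ from hv i]; simp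
    have hcomm : σ (cjv (Vp p X) (l : X) v) = cjv (Vp p X) (m : X) (σ v) := Subtype.ext (by simp [σ, m, mul_assoc])
    have key : ∀ j, d.Φ.co j (cjv (Vp p X) (l : X) v) + ![th j w, 0] = (d.Φ.ρ j m).1 *ᵥ d.Φ.co j v := by
      intro j
      rw [← d.Φ.co_cjv j m v]
      have hlv : th j (cjv (Vp p X) (l : X) v) = th j w := by
        refine hth_congr j _ w fun i => ?_
        rw [hw i, d.Φ.co_cjv, show d.Φ.co i v = _ from hv i]
        rcases eq_or_ne i i₀ with rfl | hi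
        · rw [hl]; simp [Matrix.mulVec, dotProduct, Fin.sum_univ_two]
        · simp [hl1 i hi, Pi.single_eq_of_ne hi]
      conv_rhs => rw [← hσv, ← hcomm, hco, hlv]
    refine ⟨?_, fun j hj => ?_⟩
    · have h1 := congrFun (key i₀) 0
      simp [d.Φ.co_cjv, hl, show d.Φ.co i₀ v = _ from hv i₀, Matrix.mulVec, dotProduct, Fin.sum_univ_two] at h1
      linear_combination h1
    · have h1 := congrFun (key j) 0
      simp [d.Φ.co_cjv, hl1 j hj, show d.Φ.co j v = _ from hv j, Pi.single_eq_of_ne hj] at h1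
      exact h1
  choose k hk using hsingle
  have hth : ∀ j v, th j v = k j * d.Φ.co j v 1 := by
    intro j v
    choose rep hrep using fun w : ∀ i, F i => d.Φ.Ψ_surj fun i => ![0, w i]
    have hrep1 : ∀ w i, d.Φ.co i (rep w) 1 = w i := fun w i => by rw [show d.Φ.co i (rep w) = _ from hrep w i]; simp
    let T₂ : (∀ i, F i) →+ F j := AddMonoidHom.mk' (fun w => th j (rep w)) fun a b => by
      rw [← hth_mul]
      refine hth_congr j _ _ fun i => ?_
      simp [Frame.co_mul, hrep1]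
    have hT : T₂ = (AddMonoidHom.mulLeft (k j)).comp (Pi.evalAddMonoidHom F j) := by
      refine AddMonoidHom.functions_ext (F j) _ _ fun i x => ?_
      show th j (rep (Pi.single i x)) = k j * (Pi.single i x : ∀ i, F i) j
      rcases eq_or_ne j i with rfl | hji
      · rw [(hk j x _ (hrep1 _)).1, Pi.single_eq_same]
      · rw [(hk i x _ (hrep1 _)).2 j hji, Pi.single_eq_of_ne hji, mul_zero]
    have h1 := DFunLike.congr_fun hT (fun i => d.Φ.co i v 1)
    exact (hth_congr j v _ fun i => (hrep1 (fun i => d.Φ.co i v 1) i).symm).trans h1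
  obtain ⟨t, htS, ht⟩ := d.unip.lift k
  have htσ : ∀ v i, d.Φ.co i (σ v) = d.Φ.co i (cjv (Vp p X) (t : X) v) := fun v i => by
    rw [hco, d.Φ.co_cjv, ht i, uSL_mulVec, hth]
    ext a; fin_cases a <;> simp
  have hy : (t : X)⁻¹ * s ∈ (S : Subgroup X) ⊓ d.sigma := by
    refine ⟨(S : Subgroup X).mul_mem ((S : Subgroup X).inv_mem htS) hs, fun v hv => ?_, fun v => ?_⟩
    · have h1 := hfix v fun i => by rw [(d.co_eq_zero_iff v).mpr hv i]; rfl
      have h2 := Subgroup.mem_centralizer_iff.mp hv _ (inv_mem t.2)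
      rw [mul_assoc, h1, ← mul_assoc, h2, mul_assoc]
    · refine (d.co_eq_zero_iff _).mp fun i => ?_
      rw [Frame.co_mul, Frame.co_inv, cjv_mul, show ((t : X)⁻¹) = ((t⁻¹ : Ctx.Lp p X) : X) from rfl, d.Φ.co_cjv,
        show d.Φ.co i (cjv (Vp p X) s v) = _ from htσ v i, d.Φ.co_cjv, sl_mulVec_mulVec, ← map_mul, inv_mul_cancel,
        map_one]
      show (1 : SL(2, F i)).1 *ᵥ _ + _ = 0
      rw [show (1 : SL(2, F i)).1 *ᵥ d.Φ.co i v = d.Φ.co i v from Matrix.one_mulVec _, add_neg_cancel]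
  have hyQ := d.sylow_inf_le _ d.sigma_le hy
  have hyL : (t : X)⁻¹ * s ∈ Ctx.Lp p X := Subgroup.mem_sup_right (pCore_le_Cp hyQ)
  simpa using mul_mem t.2 hyL

end Data

end CfsgLib.CharTransfer
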