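import Cfsg.Agent.Lib.Classical.SL2Sylow
import Cfsg.Agent.Lib.KGroups.CharP
import Cfsg.Prelude.Def_BaumannBlocks

/-!
A subgroup acting on a normal module through a product of copies of `SL₂` on natural modules.
-/

set_option autoImplicit false
set_option linter.unusedSectionVars false

namespace CfsgLib.CharTransfer

open Cfsg Matrix CfsgLib.Classical
open scoped MatrixGroups

variable {X : Type*} [Group X]

/-- The conjugate of an element of a normal subgroup. -/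
def cjv (V : Subgroup X) [V.Normal] (g : X) (v : V) : V :=
  ⟨g * v * g⁻¹, Subgroup.Normal.conj_mem inferInstance _ v.2 g⟩

@[simp] theorem cjv_coe (V : Subgroup X) [V.Normal] (g : X) (v : V) : (cjv V g v : X) = g * v * g⁻¹ := rfl

theorem cjv_mul (V : Subgroup X) [V.Normal] (g h : X) (v : V) : cjv V (g * h) v = cjv V g (cjv V h v) :=
  Subtype.ext (by simp [mul_assoc])

theorem cjv_map_mul (V : Subgroup X) [V.Normal] (g : X) (v w : V) : cjv V g (v * w) = cjv V g v * cjv V g w :=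
  Subtype.ext (by simp [mul_assoc])

theorem sl_mulVec_mulVec {K : Type} [Field K] (A B : SL(2, K)) (w : Fin 2 → K) :
    A.1 *ᵥ (B.1 *ᵥ w) = (A * B).1 *ᵥ w :=
  Matrix.mulVec_mulVec w A.1 B.1

variable {r : ℕ} {F : Fin r → Type} [∀ i, Field (F i)]

/-- An action of `L` on `V` through `∏ SL₂(F i)` on the sum of the natural modules. -/
structure Frame (V L : Subgroup X) [V.Normal] (F : Fin r → Type) [∀ i, Field (F i)] where
  ρ : ∀ i, L →* SL(2, F i)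
  Ψ : ∀ i, V →* Multiplicative (Fin 2 → F i)
  equiv : ∀ i (l : L) (v : V), Multiplicative.toAdd (Ψ i (cjv V (l : X) v)) =
    (ρ i l : Matrix (Fin 2) (Fin 2) (F i)) *ᵥ Multiplicative.toAdd (Ψ i v)
  Ψ_surj : ∀ w : ∀ i, Fin 2 → F i, ∃ v : V, ∀ i, Multiplicative.toAdd (Ψ i v) = w i
  ρ_surj : ∀ M : ∀ i, SL(2, F i), ∃ l : L, ∀ i, ρ i l = M i
  fixed : ∀ (l : L) (v : V),
    (∀ i, (ρ i l : Matrix (Fin 2) (Fin 2) (F i)) *ᵥ Multiplicative.toAdd (Ψ i v) = Multiplicative.toAdd (Ψ i v)) →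
      (l : X) * v = v * l

namespace Frame

variable {V L : Subgroup X} [V.Normal] (Φ : Frame V L F)

/-- Coordinates. -/
abbrev co (i : Fin r) (v : V) : Fin 2 → F i := Multiplicative.toAdd (Φ.Ψ i v)

theorem co_mul (i : Fin r) (v w : V) : Φ.co i (v * w) = Φ.co i v + Φ.co i w := by simp [co]

theorem co_one (i : Fin r) : Φ.co i 1 = 0 := by simp [co]

theorem co_inv (i : Fin r) (v : V) : Φ.co i v⁻¹ = - Φ.co i v := by simp [co]

theorem co_cjv (i : Fin r) (l : L) (v : V) :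
    Φ.co i (cjv V (l : X) v) = (Φ.ρ i l : Matrix (Fin 2) (Fin 2) (F i)) *ᵥ Φ.co i v := Φ.equiv i l v

/-- A change of coordinates. -/
noncomputable def conjugate (x : ∀ i, SL(2, F i)) : Frame V L F where
  ρ i := (MulAut.conj (x i)⁻¹).toMonoidHom.comp (Φ.ρ i)
  Ψ i := (AddMonoidHom.toMultiplicative
      (Matrix.mulVecLin ((x i)⁻¹ : SL(2, F i)).1).toAddMonoidHom).comp (Φ.Ψ i)
  equiv i l v := by
    show ((x i)⁻¹ : SL(2, F i)).1 *ᵥ Φ.co i (cjv V (l : X) v) =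
      ((x i)⁻¹ * Φ.ρ i l * (x i)⁻¹⁻¹ : SL(2, F i)).1 *ᵥ (((x i)⁻¹ : SL(2, F i)).1 *ᵥ Φ.co i v)
    rw [co_cjv, sl_mulVec_mulVec, sl_mulVec_mulVec, inv_mul_cancel_right]
  Ψ_surj w := by
    obtain ⟨v, hv⟩ := Φ.Ψ_surj fun i => (x i).1 *ᵥ w i
    refine ⟨v, fun i => ?_⟩
    show ((x i)⁻¹ : SL(2, F i)).1 *ᵥ Φ.co i v = w i
    rw [show Φ.co i v = (x i).1 *ᵥ w i from hv i, sl_mulVec_mulVec, inv_mul_cancel]
    exact Matrix.one_mulVec _
  ρ_surj M := by
    obtain ⟨l, hl⟩ := Φ.ρ_surj fun i => x i * M i * (x i)⁻¹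
    refine ⟨l, fun i => ?_⟩
    show (x i)⁻¹ * Φ.ρ i l * (x i)⁻¹⁻¹ = M i
    rw [hl i]; group
  fixed l v h := Φ.fixed l v fun i => by
    have h1 : (((x i)⁻¹ * Φ.ρ i l * (x i)⁻¹⁻¹ : SL(2, F i)).1) *ᵥ (((x i)⁻¹ : SL(2, F i)).1 *ᵥ Φ.co i v) =
        ((x i)⁻¹ : SL(2, F i)).1 *ᵥ Φ.co i v := h i
    have h2 := congrArg ((x i).1 *ᵥ ·) h1
    simp only [sl_mulVec_mulVec] at h2
    rwa [show x i * ((x i)⁻¹ * Φ.ρ i l * (x i)⁻¹⁻¹ * (x i)⁻¹) = Φ.ρ i l by group, mul_inv_cancel,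
      show ((1 : SL(2, F i)).1 *ᵥ Φ.co i v) = Φ.co i v from Matrix.one_mulVec _] at h2

theorem mem_centralizer_of_rho_eq_one {l : L} (h : ∀ i, Φ.ρ i l = 1) :
    (l : X) ∈ Subgroup.centralizer (V : Set X) :=
  Subgroup.mem_centralizer_iff.mpr fun v hv => (Φ.fixed l ⟨v, hv⟩ fun i => by
    rw [h i]; exact Matrix.one_mulVec _).symm

theorem rho_eq_one_of_mem_centralizer {l : L} (h : (l : X) ∈ Subgroup.centralizer (V : Set X)) (i : Fin r) :
    Φ.ρ i l = 1 := by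
  classical
  have hfix : ∀ w : Fin 2 → F i, (Φ.ρ i l : Matrix (Fin 2) (Fin 2) (F i)) *ᵥ w = w := by
    intro w
    obtain ⟨v, hv⟩ := Φ.Ψ_surj fun j => if h : j = i then h ▸ w else 0
    have e : cjv V (l : X) v = v := Subtype.ext (by
      rw [cjv_coe, ← Subgroup.mem_centralizer_iff.mp h v v.2, mul_inv_cancel_right])
    have h1 := Φ.co_cjv i l v
    rw [e, show Φ.co i v = w by simpa using hv i] at h1
    exact h1.symm
  apply sl_ext
  ext a b
  have := congrFun (hfix (Pi.single b 1)) a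
  rw [Matrix.mulVec_single_one] at this
  simpa [Matrix.one_apply, Pi.single_apply] using this

end Frame

theorem uSL_mulVec {K : Type} [Field K] (c : K) (w : Fin 2 → K) :
    ((uSL (Multiplicative.ofAdd c) : SL(2, K)) : Matrix (Fin 2) (Fin 2) K) *ᵥ w = ![w 0 + c * w 1, w 1] := by
  rw [uSL_coe]
  ext a; fin_cases a <;> simp [Matrix.mulVec, dotProduct, Fin.sum_univ_two]

theorem mem_unipSL_iff {K : Type} [Field K] {g : SL(2, K)} :
    g ∈ unipSL K ↔ ∃ c : K, g = uSL (Multiplicative.ofAdd c) :=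
  ⟨fun ⟨c, hc⟩ => ⟨c.toAdd, hc.symm⟩, fun ⟨c, hc⟩ => ⟨_, hc.symm⟩⟩

end CfsgLib.CharTransfer
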