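import Cfsg.Agent.Lib.CharTransfer.Frame

/-!
The frame attached to a family of `SL₂`-blocks acting on a normal elementary abelian `p`-group, `p` odd.
-/

set_option autoImplicit false
set_option linter.unusedSectionVars false

namespace CfsgLib.CharTransfer

open Cfsg Matrix CfsgLib.Classical
open scoped MatrixGroups commutatorElement

variable {X : Type*} [Group X] [Finite X] {r : ℕ}

/-- Blocks `E i`, each acting on `⁅V, E i⁆` modulo its centralizer as `SL₂(F i)`. -/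
structure Blocks (p : ℕ) (V : Subgroup X) [V.Normal] (E : Fin r → Subgroup X) (F : Fin r → Type) [∀ i, Field (F i)] where
  hp : Odd p
  comm : ∀ v ∈ V, ∀ w ∈ V, v * w = w * v
  pow : ∀ v ∈ V, v ^ p = 1
  le : ∀ i, Subgroup.centralizer (V : Set X) ≤ E i
  commE : ∀ i j, i ≠ j → ⁅E i, E j⁆ ≤ Subgroup.centralizer (V : Set X)
  dec : (V ⊓ Subgroup.centralizer ((⨆ i, E i : Subgroup X) : Set X)) ⊔ (⨆ i, ⁅V, E i⁆) = V
  off : ∀ i j, i ≠ j → ⁅⁅V, E i⁆, E j⁆ = ⊥
  nrm : ∀ i, E i ≤ Subgroup.normalizer ((⁅V, E i⁆ : Subgroup X) : Set X)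
  ρ : ∀ i, ↥(E i) →* SL(2, F i)
  ρ_surj : ∀ i, Function.Surjective (ρ i)
  ρ_ker : ∀ i (e : E i), ρ i e = 1 → (e : X) ∈ Subgroup.centralizer (V : Set X)
  ψ : ∀ i, ↥(⁅V, E i⁆ : Subgroup X) →* Multiplicative (Fin 2 → F i)
  ψ_surj : ∀ i, Function.Surjective (ψ i)
  ψ_ker : ∀ i (u : (⁅V, E i⁆ : Subgroup X)), ψ i u = 1 → (u : X) ∈ Subgroup.centralizer (E i : Set X)
  equiv : ∀ i (e : E i) (u w : (⁅V, E i⁆ : Subgroup X)), (w : X) = e * u * (e : X)⁻¹ →
    Multiplicative.toAdd (ψ i w) = (ρ i e : Matrix (Fin 2) (Fin 2) (F i)) *ᵥ Multiplicative.toAdd (ψ i u)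

namespace Blocks

variable {p : ℕ} {V : Subgroup X} [V.Normal] {E : Fin r → Subgroup X} {F : Fin r → Type} [∀ i, Field (F i)]
  (B : Blocks p V E F)

theorem U_le (i : Fin r) : ⁅V, E i⁆ ≤ V := Subgroup.commutator_le_left V (E i)

include B in
theorem charp (i : Fin r) : (p : F i) = 0 := by
  obtain ⟨u, hu⟩ := B.ψ_surj i (Multiplicative.ofAdd ![1, 0])
  have h := congrArg (B.ψ i) (show u ^ p = 1 from Subtype.ext (B.pow u (U_le i u.2)))
  rw [map_pow, map_one, hu] at h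
  have h2 := congrFun (congrArg Multiplicative.toAdd h) 0
  rw [toAdd_pow, toAdd_ofAdd, Pi.smul_apply, toAdd_one] at h2
  simpa using h2

theorem exists_neg (i : Fin r) : ∃ l : E i, (B.ρ i l : Matrix (Fin 2) (Fin 2) (F i)) = -1 := by
  obtain ⟨l, hl⟩ := B.ρ_surj i ⟨-1, by simp [Matrix.det_neg]⟩
  exact ⟨l, by rw [hl]⟩

/-- The central element of the `i`-th block. -/
noncomputable def l (i : Fin r) : E i := (B.exists_neg i).choose

theorem rho_l (i : Fin r) : (B.ρ i (B.l i) : Matrix (Fin 2) (Fin 2) (F i)) = -1 := (B.exists_neg i).choose_spec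

theorem conj_V_of_centralizer {c : X} (hc : c ∈ Subgroup.centralizer (V : Set X)) (v : V) : c * v * c⁻¹ = v := by
  rw [← Subgroup.mem_centralizer_iff.mp hc v v.2, mul_inv_cancel_right]

theorem l_comm (i : Fin r) (j : Fin r) (a : E j) (v : V) :
    (B.l i : X) * (a * v * (a : X)⁻¹) * (B.l i : X)⁻¹ = a * ((B.l i : X) * v * (B.l i : X)⁻¹) * (a : X)⁻¹ := by
  have hc : ((B.l i : X) * a)⁻¹ * (a * B.l i) ∈ Subgroup.centralizer (V : Set X) := by
    rcases eq_or_ne j i with rfl | hij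
    · have h1 : B.ρ j ((B.l j * a)⁻¹ * (a * B.l j)) = 1 := by
        rw [map_mul, map_inv, inv_mul_eq_one, map_mul, map_mul]
        apply sl_ext
        show (B.ρ j (B.l j)).1 * (B.ρ j a).1 = (B.ρ j a).1 * (B.ρ j (B.l j)).1
        rw [show (B.ρ j (B.l j)).1 = -1 from B.rho_l j]
        simp
      exact B.ρ_ker j _ h1
    · have h1 : ⁅(a : X)⁻¹, (B.l i : X)⁻¹⁆ ∈ Subgroup.centralizer (V : Set X) :=
        B.commE j i hij (Subgroup.commutator_mem_commutator (inv_mem a.2) (inv_mem (B.l i).2))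
      rw [commutatorElement_def] at h1
      simpa [mul_assoc] using h1
  have h := conj_V_of_centralizer hc v
  calc (B.l i : X) * (a * v * (a : X)⁻¹) * (B.l i : X)⁻¹
      = ((B.l i : X) * a) * (((B.l i : X) * a)⁻¹ * (a * B.l i) * v * (((B.l i : X) * a)⁻¹ * (a * B.l i))⁻¹) *
          ((B.l i : X) * a)⁻¹ := by rw [h]; group
    _ = _ := by group

theorem tau_mem (i : Fin r) (v : V) : (B.l i : X) * v * (B.l i : X)⁻¹ * (v : X)⁻¹ ∈ ⁅V, E i⁆ := by
  rw [Subgroup.commutator_comm, ← commutatorElement_def]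
  exact Subgroup.commutator_mem_commutator (B.l i).2 v.2

/-- `v ↦ ⁅l i, v⁆`. -/
noncomputable def tau (i : Fin r) : V →* (⁅V, E i⁆ : Subgroup X) where
  toFun v := ⟨_, B.tau_mem i v⟩
  map_one' := Subtype.ext (by simp)
  map_mul' v w := Subtype.ext (by
    show (B.l i : X) * (v * w) * (B.l i : X)⁻¹ * ((v : X) * w)⁻¹ =
      ((B.l i : X) * v * (B.l i : X)⁻¹ * (v : X)⁻¹) * ((B.l i : X) * w * (B.l i : X)⁻¹ * (w : X)⁻¹)
    have h1 : (B.l i : X) * w * (B.l i : X)⁻¹ * (w : X)⁻¹ ∈ V := U_le i (B.tau_mem i w)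
    calc (B.l i : X) * (v * w) * (B.l i : X)⁻¹ * ((v : X) * w)⁻¹
        = (B.l i : X) * v * (B.l i : X)⁻¹ * (((B.l i : X) * w * (B.l i : X)⁻¹ * (w : X)⁻¹) * (v : X)⁻¹) := by group
      _ = (B.l i : X) * v * (B.l i : X)⁻¹ * ((v : X)⁻¹ * ((B.l i : X) * w * (B.l i : X)⁻¹ * (w : X)⁻¹)) := by
          rw [B.comm _ h1 _ (inv_mem v.2)]
      _ = _ := by group)

theorem tau_coe (i : Fin r) (v : V) : (B.tau i v : X) = (B.l i : X) * v * (B.l i : X)⁻¹ * (v : X)⁻¹ := rfl

/-- The projection to the moved part of the `i`-th block. -/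
noncomputable def proj (i : Fin r) : V →* (⁅V, E i⁆ : Subgroup X) where
  toFun v := (B.tau i v) ^ ((p - 1) / 2)
  map_one' := by simp
  map_mul' v w := by
    rw [map_mul]
    exact Commute.mul_pow (Subtype.ext (B.comm _ (U_le i (B.tau i v).2) _ (U_le i (B.tau i w).2))) _

theorem proj_def (i : Fin r) (v : V) : B.proj i v = (B.tau i v) ^ ((p - 1) / 2) := rfl

include B in
theorem neg_two_mul (i : Fin r) : -2 * (((p - 1) / 2 : ℕ) : F i) = 1 := by
  obtain ⟨m, hm⟩ := B.hp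
  have h := B.charp i
  rw [hm] at h
  rw [hm, show (2 * m + 1 - 1) / 2 = m by omega]
  push_cast at h
  linear_combination -h

/-- Coordinates of `V` in the `i`-th block. -/
noncomputable def coord (i : Fin r) : V →* Multiplicative (Fin 2 → F i) := (B.ψ i).comp (B.proj i)

/-- `ψ` in additive notation. -/
abbrev psi (i : Fin r) (u : (⁅V, E i⁆ : Subgroup X)) : Fin 2 → F i := Multiplicative.toAdd (B.ψ i u)

theorem psi_tau (i : Fin r) (u : (⁅V, E i⁆ : Subgroup X)) :
    B.psi i (B.tau i ⟨u, U_le i u.2⟩) = (-2 : F i) • B.psi i u := by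
  have hw : (B.l i : X) * u * (B.l i : X)⁻¹ ∈ ⁅V, E i⁆ :=
    (Subgroup.mem_normalizer_iff.mp (B.nrm i (B.l i).2) u).mp u.2
  have h := B.equiv i (B.l i) u ⟨_, hw⟩ rfl
  rw [B.rho_l i] at h
  have e : B.tau i ⟨u, U_le i u.2⟩ = ⟨_, hw⟩ * u⁻¹ := Subtype.ext rfl
  simp only [psi, e, map_mul, map_inv, toAdd_mul, toAdd_inv, h]
  rw [Matrix.neg_mulVec, Matrix.one_mulVec]
  ext a
  simp
  ring

theorem coord_eq (i : Fin r) (u : (⁅V, E i⁆ : Subgroup X)) :
    Multiplicative.toAdd (B.coord i ⟨u, U_le i u.2⟩) = B.psi i u := by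
  show Multiplicative.toAdd (B.ψ i ((B.tau i _) ^ ((p - 1) / 2))) = _
  rw [map_pow, toAdd_pow, show Multiplicative.toAdd (B.ψ i (B.tau i ⟨u, U_le i u.2⟩)) = _ from B.psi_tau i u,
    ← Nat.cast_smul_eq_nsmul (F i), smul_smul, mul_comm, B.neg_two_mul i, one_smul]

theorem proj_eq_one_of_comm (i : Fin r) (v : V) (h : (B.l i : X) * v = v * B.l i) : B.proj i v = 1 := by
  have : B.tau i v = 1 := Subtype.ext (by rw [tau_coe, h]; group; rfl)
  rw [proj_def, this, one_pow]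

theorem comm_of_mem_fix {v : V} (hv : (v : X) ∈ Subgroup.centralizer ((⨆ i, E i : Subgroup X) : Set X))
    {a : X} (ha : a ∈ ⨆ i, E i) : a * v = v * a := Subgroup.mem_centralizer_iff.mp hv a ha

include B in
theorem comm_of_off {i j : Fin r} (hij : i ≠ j) {v : V} (hv : (v : X) ∈ ⁅V, E i⁆) (a : E j) :
    (a : X) * v = v * a := by
  have h : ⁅(v : X), (a : X)⁆ ∈ (⊥ : Subgroup X) := B.off i j hij ▸ Subgroup.commutator_mem_commutator hv a.2
  exact (commutatorElement_eq_one_iff_mul_comm.mp (Subgroup.mem_bot.mp h)).symm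

include B in
/-- A subgroup of `V` containing the fixed points and the commutators is everything. -/
theorem V_induction (P : V → Prop) (mul : ∀ v w, P v → P w → P (v * w)) (inv : ∀ v, P v → P v⁻¹) (one : P 1)
    (fix : ∀ v : V, (v : X) ∈ Subgroup.centralizer ((⨆ i, E i : Subgroup X) : Set X) → P v)
    (mem : ∀ i, ∀ v : V, (v : X) ∈ ⁅V, E i⁆ → P v) (v : V) : P v := by
  let K : Subgroup V :=
    { carrier := {v | P v}
      one_mem' := one
      mul_mem' := fun {a b} ha hb => mul a b ha hb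
      inv_mem' := fun {a} ha => inv a ha }
  have hle : V ≤ K.map V.subtype := by
    conv_lhs => rw [← B.dec]
    refine sup_le (fun x hx => ⟨⟨x, hx.1⟩, fix ⟨x, hx.1⟩ hx.2, rfl⟩) (iSup_le fun i x hx => ?_)
    exact ⟨⟨x, U_le i hx⟩, mem i ⟨x, U_le i hx⟩ hx, rfl⟩
  obtain ⟨w, hw, he⟩ := hle v.2
  rwa [← (show w = v from Subtype.ext he)]

theorem coord_of_fix (i : Fin r) (v : V) (hv : (v : X) ∈ Subgroup.centralizer ((⨆ i, E i : Subgroup X) : Set X)) :
    B.coord i v = 1 := by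
  show B.ψ i (B.proj i v) = 1
  rw [B.proj_eq_one_of_comm i v (comm_of_mem_fix hv (Subgroup.mem_iSup_of_mem i (B.l i).2)), map_one]

theorem coord_off {i j : Fin r} (hji : j ≠ i) (v : V) (hv : (v : X) ∈ ⁅V, E j⁆) : B.coord i v = 1 := by
  show B.ψ i (B.proj i v) = 1
  rw [B.proj_eq_one_of_comm i v (B.comm_of_off hji hv _), map_one]

/-- The block element `a ∈ E j` acts in the `i`-th coordinate as a matrix of `SL₂`. -/
theorem coord_conj (i j : Fin r) (a : E j) :
    ∃ M : SL(2, F i), (∀ v : V, Multiplicative.toAdd (B.coord i (cjv V (a : X) v)) =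
      M.1 *ᵥ Multiplicative.toAdd (B.coord i v)) ∧ (∀ h : j = i, M = B.ρ i (h ▸ a)) ∧ (j ≠ i → M = 1) := by
  classical
  refine ⟨if h : j = i then B.ρ i (h ▸ a) else 1, ?_, fun h => by simp [h], fun h => by simp [h]⟩
  intro v
  induction v using B.V_induction with
  | mul v w hv hw => rw [cjv_map_mul, map_mul, toAdd_mul, hv, hw, map_mul, toAdd_mul, Matrix.mulVec_add]
  | inv v hv =>
    have e : cjv V (a : X) v⁻¹ = (cjv V (a : X) v)⁻¹ := Subtype.ext (by simp [mul_assoc])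
    rw [e, map_inv, toAdd_inv, hv, map_inv, toAdd_inv, Matrix.mulVec_neg]
  | one => rw [show cjv V (a : X) (1 : V) = 1 from Subtype.ext (by simp)]; simp
  | fix v hv =>
    have e : cjv V (a : X) v = v := Subtype.ext (by
      rw [cjv_coe, comm_of_mem_fix hv (Subgroup.mem_iSup_of_mem j a.2), mul_inv_cancel_right])
    rw [e, B.coord_of_fix i v hv, toAdd_one, Matrix.mulVec_zero]
  | mem k v hv =>
    rcases eq_or_ne j i with rfl | hji
    · rcases eq_or_ne k j with rfl | hkj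
      · have hw : (a : X) * v * (a : X)⁻¹ ∈ ⁅V, E k⁆ := (Subgroup.mem_normalizer_iff.mp (B.nrm k a.2) v).mp hv
        rw [dif_pos rfl]
        rw [show cjv V (a : X) v = ⟨((⟨_, hw⟩ : (⁅V, E k⁆ : Subgroup X)) : X), U_le k hw⟩ from rfl, B.coord_eq k ⟨_, hw⟩,
          show Multiplicative.toAdd (B.coord k v) = _ from B.coord_eq k ⟨_, hv⟩]
        exact B.equiv k a ⟨_, hv⟩ ⟨_, hw⟩ rfl
      · have e : cjv V (a : X) v = v := Subtype.ext (by
          rw [cjv_coe, B.comm_of_off hkj hv a, mul_inv_cancel_right])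
        rw [e, B.coord_off hkj v hv, toAdd_one, Matrix.mulVec_zero]
    · rw [dif_neg hji]
      show _ = (1 : SL(2, F i)).1 *ᵥ _
      rcases eq_or_ne k j with rfl | hkj
      · have hw : ((cjv V (a : X) v : V) : X) ∈ ⁅V, E k⁆ := (Subgroup.mem_normalizer_iff.mp (B.nrm k a.2) v).mp hv
        rw [B.coord_off hji _ hw, B.coord_off hji v hv]
        simp
      · have e : cjv V (a : X) v = v := Subtype.ext (by
          rw [cjv_coe, B.comm_of_off hkj hv a, mul_inv_cancel_right])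
        rw [e]; exact (Matrix.one_mulVec _).symm

theorem exists_coord_eq (i : Fin r) (w : Fin 2 → F i) :
    ∃ v : V, (v : X) ∈ ⁅V, E i⁆ ∧ Multiplicative.toAdd (B.coord i v) = w := by
  obtain ⟨u, hu⟩ := B.ψ_surj i (Multiplicative.ofAdd w)
  exact ⟨⟨u, U_le i u.2⟩, u.2, by rw [B.coord_eq i u]; simp [psi, hu]⟩

theorem matrix_unique (i : Fin r) {g : X} {M N : SL(2, F i)}
    (hM : ∀ v : V, Multiplicative.toAdd (B.coord i (cjv V g v)) = M.1 *ᵥ Multiplicative.toAdd (B.coord i v))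
    (hN : ∀ v : V, Multiplicative.toAdd (B.coord i (cjv V g v)) = N.1 *ᵥ Multiplicative.toAdd (B.coord i v)) :
    M = N := by
  refine sl_ext (Matrix.ext fun a b => ?_)
  obtain ⟨v, -, hv⟩ := B.exists_coord_eq i (Pi.single b 1)
  have h := (hM v).symm.trans (hN v)
  rw [hv, Matrix.mulVec_single_one, Matrix.mulVec_single_one] at h
  exact congrFun h a

theorem exists_matrix (i : Fin r) (g : (⨆ j, E j : Subgroup X)) :
    ∃ M : SL(2, F i), ∀ v : V, Multiplicative.toAdd (B.coord i (cjv V (g : X) v)) = M.1 *ᵥ Multiplicative.toAdd (B.coord i v) := by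
  obtain ⟨g, hg⟩ := g
  induction hg using Subgroup.iSup_induction' with
  | hp j a ha => exact ⟨_, (B.coord_conj i j ⟨a, ha⟩).choose_spec.1⟩
  | h1 =>
    refine ⟨1, fun v => ?_⟩
    rw [show cjv V (1 : X) v = v from Subtype.ext (by simp)]
    exact (Matrix.one_mulVec _).symm
  | hmul a b ha hb iha ihb =>
    obtain ⟨M, hM⟩ := iha
    obtain ⟨N, hN⟩ := ihb
    exact ⟨M * N, fun v => by rw [cjv_mul, hM, hN, sl_mulVec_mulVec]⟩

/-- The action of the product of the blocks in the `i`-th coordinate. -/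
noncomputable def rhoAll (i : Fin r) : ↥(⨆ j, E j : Subgroup X) →* SL(2, F i) where
  toFun g := (B.exists_matrix i g).choose
  map_one' := B.matrix_unique i (B.exists_matrix i 1).choose_spec fun v => by
    rw [show cjv V ((1 : (⨆ j, E j : Subgroup X)) : X) v = v from Subtype.ext (by simp)]
    exact (Matrix.one_mulVec _).symm
  map_mul' g h := B.matrix_unique i (B.exists_matrix i (g * h)).choose_spec fun v => by
    rw [Subgroup.coe_mul, cjv_mul, (B.exists_matrix i g).choose_spec, (B.exists_matrix i h).choose_spec, sl_mulVec_mulVec]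

theorem rhoAll_spec (i : Fin r) (g : (⨆ j, E j : Subgroup X)) (v : V) :
    Multiplicative.toAdd (B.coord i (cjv V (g : X) v)) = (B.rhoAll i g).1 *ᵥ Multiplicative.toAdd (B.coord i v) :=
  (B.exists_matrix i g).choose_spec v

theorem rhoAll_eq (i j : Fin r) (a : E j) :
    B.rhoAll i ⟨a, Subgroup.mem_iSup_of_mem j a.2⟩ = (B.coord_conj i j a).choose :=
  B.matrix_unique i (B.rhoAll_spec i _) (B.coord_conj i j a).choose_spec.1

theorem rhoAll_surj (M : ∀ i, SL(2, F i)) : ∃ g : (⨆ j, E j : Subgroup X), ∀ i, B.rhoAll i g = M i := by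
  classical
  suffices h : ∀ s : Finset (Fin r), ∃ g : (⨆ j, E j : Subgroup X), ∀ i, B.rhoAll i g = if i ∈ s then M i else 1 by
    obtain ⟨g, hg⟩ := h Finset.univ
    exact ⟨g, fun i => by rw [hg i, if_pos (Finset.mem_univ i)]⟩
  intro s
  induction s using Finset.induction with
  | empty => exact ⟨1, fun i => by simp⟩
  | insert a s has ih =>
    obtain ⟨g, hg⟩ := ih
    obtain ⟨e, he⟩ := B.ρ_surj a (M a)
    refine ⟨⟨e, Subgroup.mem_iSup_of_mem a e.2⟩ * g, fun i => ?_⟩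
    rw [map_mul, rhoAll_eq, hg i]
    rcases eq_or_ne a i with rfl | hai
    · rw [(B.coord_conj a a e).choose_spec.2.1 rfl, if_neg has, mul_one, if_pos (Finset.mem_insert_self _ _)]
      exact he
    · rw [(B.coord_conj i a e).choose_spec.2.2 hai, one_mul]
      simp [Finset.mem_insert, hai.symm]

theorem coord_surj (w : ∀ i, Fin 2 → F i) : ∃ v : V, ∀ i, Multiplicative.toAdd (B.coord i v) = w i := by
  classical
  suffices h : ∀ s : Finset (Fin r), ∃ v : V, ∀ i, Multiplicative.toAdd (B.coord i v) = if i ∈ s then w i else 0 by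
    obtain ⟨v, hv⟩ := h Finset.univ
    exact ⟨v, fun i => by rw [hv i, if_pos (Finset.mem_univ i)]⟩
  intro s
  induction s using Finset.induction with
  | empty => exact ⟨1, fun i => by simp⟩
  | insert a s has ih =>
    obtain ⟨v, hv⟩ := ih
    obtain ⟨u, hu, he⟩ := B.exists_coord_eq a (w a)
    refine ⟨u * v, fun i => ?_⟩
    rw [map_mul, toAdd_mul, hv i]
    rcases eq_or_ne a i with rfl | hai
    · rw [he, if_neg has, add_zero, if_pos (Finset.mem_insert_self _ _)]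
    · rw [B.coord_off hai u hu, toAdd_one, zero_add]
      simp [Finset.mem_insert, hai.symm]

theorem l_sq (i : Fin r) : (B.l i : X) * B.l i ∈ Subgroup.centralizer (V : Set X) := by
  refine B.ρ_ker i (B.l i * B.l i) (sl_ext ?_)
  rw [map_mul]
  show (B.ρ i (B.l i)).1 * (B.ρ i (B.l i)).1 = 1
  rw [show (B.ρ i (B.l i)).1 = -1 from B.rho_l i]
  simp

theorem l_inverts_proj (i : Fin r) (v : V) :
    (B.l i : X) * (B.proj i v : X) * (B.l i : X)⁻¹ = (B.proj i v : X)⁻¹ := by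
  rw [proj_def, SubmonoidClass.coe_pow, ← conj_pow, ← inv_pow]
  congr 1
  have h := conj_V_of_centralizer (B.l_sq i) v
  rw [tau_coe]
  calc (B.l i : X) * ((B.l i : X) * v * (B.l i : X)⁻¹ * (v : X)⁻¹) * (B.l i : X)⁻¹
      = ((B.l i : X) * B.l i * v * ((B.l i : X) * B.l i)⁻¹) * ((B.l i : X) * (v : X)⁻¹ * (B.l i : X)⁻¹) := by group
    _ = (v : X) * ((B.l i : X) * (v : X)⁻¹ * (B.l i : X)⁻¹) := by rw [h]
    _ = _ := by group

theorem eq_one_of_inverted (i : Fin r) (u : (⁅V, E i⁆ : Subgroup X))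
    (hl : (B.l i : X) * u * (B.l i : X)⁻¹ = (u : X)⁻¹) (h : B.ψ i u = 1) : u = 1 := by
  have hc := Subgroup.mem_centralizer_iff.mp (B.ψ_ker i u h) _ (B.l i).2
  rw [hc, mul_inv_cancel_right] at hl
  have h2 : (u : X) ^ 2 = 1 := by
    rw [pow_two]
    nth_rewrite 2 [hl]
    rw [mul_inv_cancel]
  obtain ⟨m, hm⟩ := B.hp
  have hp1 := B.pow u (U_le i u.2)
  rw [hm, pow_succ, pow_mul, h2, one_pow, one_mul] at hp1
  exact Subtype.ext hp1

theorem split_gen (v : V) (K : Subgroup V)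
    (hK : ∀ i, (⟨B.proj i v, U_le i (B.proj i v).2⟩ : V) ∈ K) :
    ∃ k ∈ K, ((v * k⁻¹ : V) : X) ∈ Subgroup.centralizer ((⨆ i, E i : Subgroup X) : Set X) := by
  classical
  haveI : IsMulCommutative V := ⟨⟨fun a b => Subtype.ext (B.comm a a.2 b b.2)⟩⟩
  open scoped IsMulCommutative in
  let Pi : V →* V := ∏ i, (Subgroup.inclusion (U_le (V := V) (E := E) i)).comp (B.proj i)
  have hPi : ∀ u : V, Pi u = ∏ i, (⟨B.proj i u, U_le i (B.proj i u).2⟩ : V) := fun u => by
    simp [Pi, MonoidHom.finsetProd_apply]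
    rfl
  refine ⟨Pi v, hPi v ▸ prod_mem fun i _ => hK i, ?_⟩
  clear hK
  induction v using B.V_induction with
  | mul a b ha hb =>
    have e : a * b * (Pi (a * b))⁻¹ = (a * (Pi a)⁻¹) * (b * (Pi b)⁻¹) := by
      rw [map_mul, mul_inv]; exact mul_mul_mul_comm _ _ _ _
    rw [e]; exact mul_mem ha hb
  | inv a ha =>
    have e : a⁻¹ * (Pi a⁻¹)⁻¹ = (a * (Pi a)⁻¹)⁻¹ := by rw [map_inv, mul_inv]
    rw [e]; exact inv_mem ha
  | one => simp [one_mem]
  | fix a ha =>
    have e : Pi a = 1 := by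
      rw [hPi]
      exact Finset.prod_eq_one fun i _ => Subtype.ext (by
        rw [B.proj_eq_one_of_comm i a (comm_of_mem_fix ha (Subgroup.mem_iSup_of_mem i (B.l i).2))]; rfl)
    rwa [e, inv_one, mul_one]
  | mem k a ha =>
    have e : Pi a = ⟨B.proj k a, U_le k (B.proj k a).2⟩ := by
      rw [hPi]
      refine Finset.prod_eq_single k (fun i _ hik => Subtype.ext ?_) (fun h => absurd (Finset.mem_univ k) h)
      rw [B.proj_eq_one_of_comm i a (B.comm_of_off (Ne.symm hik) ha _)]; rfl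
    rw [e]
    set d : (⁅V, E k⁆ : Subgroup X) := ⟨a, ha⟩ * (B.proj k a)⁻¹ with hd
    have hd1 : B.ψ k d = 1 := by
      rw [hd, map_mul, map_inv, mul_inv_eq_one]
      exact Multiplicative.toAdd.injective (B.coord_eq k ⟨a, ha⟩).symm
    show (d : X) ∈ _
    have hdk := Subgroup.mem_centralizer_iff.mp (B.ψ_ker k d hd1)
    refine Subgroup.mem_centralizer_iff.mpr fun g hg => ?_
    induction hg using Subgroup.iSup_induction' with
    | hp j x hx =>
      rcases eq_or_ne k j with rfl | hkj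
      · exact hdk x hx
      · exact B.comm_of_off hkj (v := ⟨d, U_le k d.2⟩) d.2 ⟨x, hx⟩
    | h1 => simp
    | hmul x y _ _ hx hy => rw [mul_assoc, hy, ← mul_assoc, hx, mul_assoc]

theorem conj_mem_U (j : Fin r) {g : X} (hg : g ∈ ⨆ i, E i) (u : V) (hu : (u : X) ∈ ⁅V, E j⁆) :
    g * u * g⁻¹ ∈ ⁅V, E j⁆ ∧
      (B.l j : X) * (g * u * g⁻¹) * (B.l j : X)⁻¹ = g * ((B.l j : X) * u * (B.l j : X)⁻¹) * g⁻¹ := by
  induction hg using Subgroup.iSup_induction' generalizing u with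
  | hp i a ha =>
    refine ⟨?_, B.l_comm j i ⟨a, ha⟩ u⟩
    rcases eq_or_ne j i with rfl | hji
    · exact (Subgroup.mem_normalizer_iff.mp (B.nrm j ha) u).mp hu
    · have h := B.comm_of_off hji hu ⟨a, ha⟩
      dsimp only at h
      rw [h, mul_inv_cancel_right]; exact hu
  | h1 => simpa using hu
  | hmul a b ha hb iha ihb =>
    obtain ⟨h1, h2⟩ := ihb u hu
    obtain ⟨h3, h4⟩ := iha ⟨b * u * b⁻¹, U_le j h1⟩ h1
    have hl : (B.l j : X) * u * (B.l j : X)⁻¹ ∈ ⁅V, E j⁆ := (Subgroup.mem_normalizer_iff.mp (B.nrm j (B.l j).2) u).mp hu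
    refine ⟨by simpa [mul_assoc] using h3, ?_⟩
    calc (B.l j : X) * (a * b * u * (a * b)⁻¹) * (B.l j : X)⁻¹
        = (B.l j : X) * (a * (b * u * b⁻¹) * a⁻¹) * (B.l j : X)⁻¹ := by group
      _ = a * ((B.l j : X) * (b * u * b⁻¹) * (B.l j : X)⁻¹) * a⁻¹ := h4
      _ = _ := by rw [h2]; group

theorem coord_fixed (g : (⨆ i, E i : Subgroup X)) (v : V)
    (h : ∀ i, (B.rhoAll i g).1 *ᵥ Multiplicative.toAdd (B.coord i v) = Multiplicative.toAdd (B.coord i v)) :
    (g : X) * v = v * g := by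
  let K : Subgroup V := (Subgroup.centralizer {(g : X)}).subgroupOf V
  have hK : ∀ i, (⟨B.proj i v, U_le i (B.proj i v).2⟩ : V) ∈ K := by
    intro i
    set u := B.proj i v with hu
    show (u : X) ∈ Subgroup.centralizer {(g : X)}
    rw [Subgroup.mem_centralizer_singleton_iff]
    obtain ⟨hw, hwl⟩ := B.conj_mem_U i g.2 ⟨u, U_le i u.2⟩ u.2
    set d : (⁅V, E i⁆ : Subgroup X) := ⟨_, hw⟩ * u⁻¹ with hd
    have hd1 : B.ψ i d = 1 := by
      rw [hd, map_mul, map_inv, mul_inv_eq_one]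
      apply Multiplicative.toAdd.injective
      have h1 := B.rhoAll_spec i g ⟨u, U_le i u.2⟩
      rw [show cjv V (g : X) ⟨u, U_le i u.2⟩ = ⟨((⟨_, hw⟩ : (⁅V, E i⁆ : Subgroup X)) : X), U_le i hw⟩ from rfl,
        B.coord_eq i ⟨_, hw⟩, B.coord_eq i u] at h1
      exact h1.trans (h i)
    have hd2 : (B.l i : X) * d * (B.l i : X)⁻¹ = (d : X)⁻¹ := by
      show (B.l i : X) * ((g : X) * u * (g : X)⁻¹ * (u : X)⁻¹) * (B.l i : X)⁻¹ = ((g : X) * u * (g : X)⁻¹ * (u : X)⁻¹)⁻¹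
      have h5 := B.l_inverts_proj i v
      rw [← hu] at h5
      calc (B.l i : X) * ((g : X) * u * (g : X)⁻¹ * (u : X)⁻¹) * (B.l i : X)⁻¹
          = ((B.l i : X) * ((g : X) * u * (g : X)⁻¹) * (B.l i : X)⁻¹) * ((B.l i : X) * u * (B.l i : X)⁻¹)⁻¹ := by group
        _ = (g : X) * (u : X)⁻¹ * (g : X)⁻¹ * u := by
            rw [show (B.l i : X) * ((g : X) * u * (g : X)⁻¹) * (B.l i : X)⁻¹ = _ from hwl]
            dsimp only
            rw [h5, inv_inv]
        _ = (u : X) * ((g : X) * (u : X)⁻¹ * (g : X)⁻¹) := by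
            refine B.comm _ ?_ _ (U_le i u.2)
            simpa [mul_assoc] using inv_mem (U_le i hw)
        _ = _ := by group
    have h6 := congrArg Subtype.val (B.eq_one_of_inverted i d hd2 hd1)
    have h7 : (g : X) * u * (g : X)⁻¹ * (u : X)⁻¹ = 1 := h6
    rw [mul_inv_eq_one, mul_inv_eq_iff_eq_mul] at h7
    exact h7.symm
  obtain ⟨k, hk, hv⟩ := B.split_gen v K hK
  have h1 : (k : X) * g = g * k := Subgroup.mem_centralizer_singleton_iff.mp hk
  have h2 := comm_of_mem_fix hv g.2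
  rw [show (v : X) = ((v * k⁻¹ : V) : X) * k by simp]
  rw [← mul_assoc, h2, mul_assoc, ← h1, ← mul_assoc]

/-- The frame of the blocks. -/
noncomputable def toFrame : Frame V (⨆ i, E i) F where
  ρ := B.rhoAll
  Ψ := B.coord
  equiv := B.rhoAll_spec
  Ψ_surj := B.coord_surj
  ρ_surj := B.rhoAll_surj
  fixed := B.coord_fixed

end Blocks

end CfsgLib.CharTransfer
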