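import Cfsg.Agent.Lib.CharTransfer.Parabolic
import Cfsg.Agent.Lib.KGroups.Functor.Degree

/-!
The family of all characteristic `p`-functors controls transfer for odd `p`.
-/

set_option autoImplicit false
set_option linter.unusedSectionVars false

namespace CfsgLib.CharTransfer

open Cfsg CfsgLib.LocalEven.MovesFixed CfsgLib.KGroups.Functor
open scoped commutatorElement

universe u

/-- All characteristic `p`-functors. -/
def allFunctors (p : ℕ) : Set (∀ (Q : Type u) [Group Q], Subgroup Q) := {W | IsCharPFunctor.{u} p W}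

theorem charP_mem {p : ℕ} : ∀ W ∈ allFunctors.{u} p, IsCharPFunctor.{u} p W := fun _ h => h

variable {p : ℕ} [Fact p.Prime]

/-- The functor taking a given characteristic subgroup of `P` to its transports. -/
noncomputable def transportFunctor {P : Type u} [Group P] (T : Subgroup P) :
    ∀ (Q : Type u) [Group Q], Subgroup Q :=
  fun Q _ => by
    classical exact if h : Nonempty (P ≃* Q) then T.map h.some.toMonoidHom else ⊤

theorem transportFunctor_map {P : Type u} [Group P] {T : Subgroup P} [hT : T.Characteristic] {Q : Type u} [Group Q]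
    (e : P ≃* Q) : transportFunctor T Q = T.map e.toMonoidHom := by
  have h : Nonempty (P ≃* Q) := ⟨e⟩
  rw [transportFunctor, dif_pos h]
  have h1 := Subgroup.characteristic_iff_map_eq.mp hT (h.some.trans e.symm)
  conv_rhs => rw [← h1]
  rw [Subgroup.map_map]
  congr 1
  ext x
  simp

theorem transportFunctor_isCharP {P : Type u} [Group P] (T : Subgroup P) [hT : T.Characteristic] (hne : T ≠ ⊥) :
    IsCharPFunctor.{u} p (transportFunctor T) := by
  constructor
  · intro Q _ _ _ hQ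
    by_cases h : Nonempty (P ≃* Q)
    · rw [transportFunctor, dif_pos h]
      exact fun e => hne ((Subgroup.map_eq_bot_iff_of_injective _ h.some.injective).mp e)
    · rw [transportFunctor, dif_neg h]
      exact top_ne_bot
  · intro Q R _ _ _ _ φ
    by_cases h : Nonempty (P ≃* Q)
    · rw [transportFunctor_map h.some, transportFunctor_map (h.some.trans φ), Subgroup.map_map]
      rfl
    · have h' : ¬ Nonempty (P ≃* R) := fun ⟨e⟩ => h ⟨e.trans φ.symm⟩
      rw [transportFunctor, transportFunctor, dif_neg h, dif_neg h', Subgroup.map_top_of_surjective _ φ.surjective]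

theorem allFunctors_nonempty : (allFunctors.{u} p).Nonempty :=
  ⟨fun _ _ => ⊤, fun _ _ _ _ _ => top_ne_bot, fun _ _ _ _ _ _ φ => Subgroup.map_top_of_surjective _ φ.surjective⟩

variable {X : Type u} [Group X] [Finite X]

/-- The minimal constrained group is controlled. -/
theorem controls_of_minimal (hp : p ≠ 2) (S : Sylow p X)
    (hsub : ∀ K : Subgroup X, K ≠ ⊤ → FamilyControlsTransferIn p (ind X (allFunctors p)) K)
    (hquo : ∀ (N : Subgroup X) [N.Normal], N ≠ ⊥ → FamilyControlsTransferIn p (ind (X ⧸ N) (allFunctors p)) ⊤)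
    (hcon : Subgroup.centralizer (pCore p X : Set X) ≤ pCore p X) :
    FamilyControlsTransferIn p (ind X (allFunctors p)) ⊤ := by
  classical
  by_contra hG
  set T := transferTarget (ind X (allFunctors p)) (S : Subgroup X) ⊤
  have hdeg := degree_of_minimal S charP_mem allFunctors_nonempty hsub hquo hcon hG
  set M := Subgroup.normalizer ((T ⊓ pCore p X : Subgroup X) : Set X) with hM
  obtain ⟨⟨hMne, hMtop⟩, ⟨hQM1, hQM2⟩, -⟩ := hdeg
  set Q := pCore p X
  haveI hQn : Q.Normal := LocalEven.SylowIn.pCore_normal X p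
  have hchar : ∀ T₀ : Subgroup ↥(S : Subgroup X), T₀ ≠ ⊥ → T₀.Characteristic →
      ¬ (T₀.map (S : Subgroup X).subtype).Normal := by
    intro T₀ hne hc hn
    haveI := hc
    refine hG (familyTransfer_of_le S (le_iSup₂_of_le (inducedFunctor (transportFunctor T₀))
      ⟨_, transportFunctor_isCharP T₀ hne, rfl⟩ (le_of_eq ?_)))
    have e : inducedFunctor (transportFunctor T₀) (S : Subgroup X) = T₀.map (S : Subgroup X).subtype := by
      show (transportFunctor T₀ ↥(S : Subgroup X)).map (S : Subgroup X).subtype = _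
      rw [transportFunctor_map (MulEquiv.refl ↥(S : Subgroup X))]
      congr 1
      exact Subgroup.map_id T₀
    rw [e, Subgroup.normalizer_eq_top_iff.mpr hn, top_inf_eq]
  have hctx : Ctx S M := ⟨hp, hcon, hMne, hMtop, hchar⟩
  haveI := Vp_normal (p := p) (G := X)
  obtain ⟨r, F, iF, iT, iC, Φ, hU, hgen⟩ := hctx.exists_frame
  let d : Data S M F := ⟨hctx, Φ, hU, hgen⟩
  obtain ⟨z, c, A, hzM, hzz, hcM, hcz, hAU, hAz, hZdec, hfix⟩ := d.exists_mover
  haveI hOn := d.O_normal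
  haveI hUn := d.U1_normal
  have hQS : Q ≤ (S : Subgroup X) := Solvable.Cores.pCore_le_sylow S
  have hSM : (S : Subgroup X) ≤ M := hctx.le_M
  have hTS : T ≤ (S : Subgroup X) := (transferTarget_le _ _ _).trans inf_le_left
  have hSM' : ⁅(S : Subgroup X), (S : Subgroup X)⁆ ≤ T := commutator_sylow_le_target S charP_mem allFunctors_nonempty
  have hMR : ∀ g ∈ M, ∀ q ∈ Q, g * q * g⁻¹ * q⁻¹ ∈ T := fun g hg q hq => by
    have h0 : ⁅q, g⁆ ∈ T := (hQM2 (hQM1 (Subgroup.commutator_mem_commutator hq hg))).2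
    have h1 := inv_mem h0
    rwa [commutatorElement_inv, commutatorElement_def] at h1
  -- the minimal normal counterexample
  have hST : ¬ (S : Subgroup X) ≤ Q := fun hle => hctx.not_normal (by rw [le_antisymm hle hQS]; exact hQn)
  have hQbot : Q ≠ ⊥ := by
    intro e
    have h1 := hcon
    rw [e] at h1
    exact hST (le_trans (fun x _ => by
      exact Subgroup.mem_bot.mpr (Subgroup.mem_bot.mp (h1 (by simp [Subgroup.mem_centralizer_iff])))) bot_le)
  have hR0 : ¬ Q ⊓ ⁅(⊤ : Subgroup X), ⊤⁆ ≤ T := fun hle => hG (familyTransfer_of_le S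
    ((inf_commutator_le_sup S charP_mem hsub Q (Solvable.Cores.isPGroup_pCore p) (hquo Q hQbot)
      (fun V hV => normalizer_quotient_pCore_ne_top S hST hV)).trans (sup_le le_rfl hle)))
  obtain ⟨R, ⟨hRn, hRle, hRT⟩, hRmin⟩ := (Finite.to_wellFoundedLT).wf.has_min
    {R : Subgroup X | R.Normal ∧ R ≤ Q ⊓ ⁅(⊤ : Subgroup X), ⊤⁆ ∧ ¬ R ≤ T}
    ⟨Q ⊓ ⁅(⊤ : Subgroup X), ⊤⁆, inferInstance, le_rfl, hR0⟩
  have hRQ : R ≤ Q := hRle.trans inf_le_left
  let St : Subgroup X :=
    { carrier := {g | ∀ q ∈ R, g * q * g⁻¹ * q⁻¹ ∈ T}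
      one_mem' := fun q _ => by simp [one_mem]
      mul_mem' := fun {a b} ha hb q hq => by
        have h1 := mul_mem (ha _ (hRn.conj_mem q hq b)) (hb q hq)
        simpa [mul_assoc] using h1
      inv_mem' := fun {a} ha q hq => by
        have h1 := inv_mem (ha _ (hRn.conj_mem q hq a⁻¹))
        simpa [mul_assoc] using h1 }
  have hMSt : M ≤ St := fun g hg q hq => hMR g hg q (hRQ hq)
  suffices hcSt : c ∈ St by
    have hSttop : St = ⊤ := by
      by_contra hne
      exact hcM (hMtop St (hSM.trans hMSt) hne hcSt)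
    refine hRT fun t ht => mem_of_conj_congr S hSM' (hRle ht).2 (fun g => hQS (hRQ ?_)) fun g => ?_
    · simpa using hRn.conj_mem t ht g⁻¹
    · have h1 : g⁻¹ ∈ St := by rw [hSttop]; trivial
      simpa using h1 t ht
  -- the commutators with the involution
  intro q hq
  have hzinv : z⁻¹ = z := inv_eq_of_mul_eq_one_right hzz
  let N1 : Subgroup X := Subgroup.closure {x | ∃ s ∈ R, x = z * s * z⁻¹ * s⁻¹}
  have hN1R : N1 ≤ R := (Subgroup.closure_le _).mpr (by
    rintro _ ⟨s, hs, rfl⟩; exact R.mul_mem (hRn.conj_mem s hs z) (inv_mem hs))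
  have hN1T : N1 ≤ T := (Subgroup.closure_le _).mpr (by
    rintro _ ⟨s, hs, rfl⟩; exact hMR z hzM s (hRQ hs))
  have hconjT : ∀ s ∈ (S : Subgroup X), ∀ t ∈ T, s * t * s⁻¹ ∈ T := fun s hs t ht => by
    have h1 := mul_mem (hSM' (Subgroup.commutator_mem_commutator hs (hTS ht))) ht
    rwa [commutatorElement_def, inv_mul_cancel_right] at h1
  have hN1c : ∀ x ∈ N1, c * x * c⁻¹ ∈ N1 := by
    intro x hx
    have h1 : N1 ≤ N1.comap (MulAut.conj c).toMonoidHom := (Subgroup.closure_le _).mpr (by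
      rintro _ ⟨s, hs, rfl⟩
      refine Subgroup.subset_closure ⟨c * s * c⁻¹, hRn.conj_mem s hs c, ?_⟩
      show c * (z * s * z⁻¹ * s⁻¹) * c⁻¹ = _
      have h : c * z = z * c := hcz
      have h' : z⁻¹ * c⁻¹ = c⁻¹ * z⁻¹ := by rw [← _root_.mul_inv_rev, ← _root_.mul_inv_rev, h]
      calc c * (z * s * z⁻¹ * s⁻¹) * c⁻¹ = (c * z) * s * z⁻¹ * s⁻¹ * c⁻¹ := by group
        _ = (z * c) * s * z⁻¹ * s⁻¹ * c⁻¹ := by rw [h]
        _ = z * c * s * (z⁻¹ * c⁻¹) * (c * s⁻¹ * c⁻¹) := by group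
        _ = z * c * s * (c⁻¹ * z⁻¹) * (c * s⁻¹ * c⁻¹) := by rw [h']
        _ = _ := by group)
    exact h1 hx
  -- a representative fixed by the involution
  set n := q⁻¹ * (z * q * z⁻¹) with hn
  have hnN1 : n ∈ N1 := by
    have h1 : z * (q⁻¹) * z⁻¹ * (q⁻¹)⁻¹ ∈ N1 := Subgroup.subset_closure ⟨q⁻¹, inv_mem hq, rfl⟩
    have h2 : z * (z * q * z⁻¹ * q⁻¹) * z⁻¹ * (z * q * z⁻¹ * q⁻¹)⁻¹ ∈ N1 :=
      Subgroup.subset_closure ⟨_, hN1R (Subgroup.subset_closure ⟨q, hq, rfl⟩), rfl⟩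
    have h4 : z * (z * q⁻¹ * z⁻¹ * q) * z⁻¹ * (z * q⁻¹ * z⁻¹ * q)⁻¹ ∈ N1 :=
      Subgroup.subset_closure ⟨_, R.mul_mem (hRn.conj_mem _ (inv_mem hq) z) hq, rfl⟩
    have h3 := mul_mem h4 h1
    rw [inv_inv] at h3
    have e : n = z * (z * q⁻¹ * z⁻¹ * q) * z⁻¹ * (z * q⁻¹ * z⁻¹ * q)⁻¹ * (z * q⁻¹ * z⁻¹ * q) := by
      rw [hn, inv_mul_cancel_right]
      calc q⁻¹ * (z * q * z⁻¹) = (z * z) * q⁻¹ * (z * z)⁻¹ * (z * q * z⁻¹) := by rw [hzz]; simp [mul_assoc]
        _ = _ := by group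
    rwa [e]
  have hzn : z * n * z⁻¹ = n⁻¹ := by
    rw [hn]
    calc z * (q⁻¹ * (z * q * z⁻¹)) * z⁻¹ = (z * q * z⁻¹)⁻¹ * ((z * z) * q * (z * z)⁻¹) := by group
      _ = _ := by rw [hzz]; group
  obtain ⟨a, ha⟩ := (Solvable.Cores.isPGroup_pCore p : IsPGroup p Q) ⟨n, hRQ (hN1R hnN1)⟩
  have hna : n ^ p ^ a = 1 := congrArg Subtype.val ha
  set j := (p ^ a + 1) / 2
  have h2j : 2 * j = p ^ a + 1 := by
    obtain ⟨b, hb⟩ := (hctx.odd.pow (n := a))
    omega
  set m := n ^ j
  have hmN1 : m ∈ N1 := pow_mem hnN1 _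
  set r0 := q * m
  have hr0R : r0 ∈ R := R.mul_mem hq (hN1R hmN1)
  have hzr0 : z * r0 = r0 * z := by
    have h1 : z * m * z⁻¹ = m⁻¹ := by rw [← conj_pow, hzn, inv_pow]
    have h2 : n * m⁻¹ = m := by
      rw [mul_inv_eq_iff_eq_mul, ← pow_add, ← two_mul, h2j, pow_succ, hna, one_mul]
    have h3 : z * r0 * z⁻¹ = r0 := by
      calc z * (q * m) * z⁻¹ = q * (q⁻¹ * (z * q * z⁻¹)) * (z * m * z⁻¹) := by group
        _ = q * (n * m⁻¹) := by rw [h1, ← hn, mul_assoc]
        _ = _ := by rw [h2]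
    rwa [mul_inv_eq_iff_eq_mul] at h3
  set dd := c * r0 * c⁻¹
  have hddR : dd ∈ R := hRn.conj_mem _ hr0R c
  have hcC : Commute c z := hcz
  have hzdd : z * dd = dd * z :=
    ((hcC.symm.mul_right (show Commute z r0 from hzr0)).mul_right hcC.symm.inv_right).eq
  have hAc : ∀ x ∈ A, c * x = x * c := fun x hx => hfix x (d.U1_le_O (hAU hx)) (hAz x hx)
  set e := r0⁻¹ * dd
  have heR : e ∈ R := R.mul_mem (inv_mem hr0R) hddR
  have heA : ∀ x ∈ A, x * e = e * x := by
    intro x hx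
    set w := x * r0 * x⁻¹ * r0⁻¹
    have hwU : w ∈ Data.U1 S := by
      have h1 := (Data.U1 S).mul_mem (hAU hx) (hUn.conj_mem _ ((Data.U1 S).inv_mem (hAU hx)) r0)
      simpa [w, mul_assoc] using h1
    have hwz : z * w = w * z := by
      have hzx : Commute z x := hAz x hx
      exact (((hzx.mul_right hzr0).mul_right hzx.inv_right).mul_right (show Commute z r0 from hzr0).inv_right).eq
    have hcw := hfix w (d.U1_le_O hwU) hwz
    have h1 : x * dd * x⁻¹ * dd⁻¹ = w := by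
      have hxc := hAc x hx
      calc x * (c * r0 * c⁻¹) * x⁻¹ * (c * r0 * c⁻¹)⁻¹ = (x * c) * r0 * (x * c)⁻¹ * (c * r0⁻¹ * c⁻¹) := by group
        _ = (c * x) * r0 * (c * x)⁻¹ * (c * r0⁻¹ * c⁻¹) := by rw [hxc]
        _ = c * w * c⁻¹ := by simp only [w]; group
        _ = w := by rw [hcw, mul_inv_cancel_right]
    have h2 : dd * x⁻¹ * dd⁻¹ = r0 * x⁻¹ * r0⁻¹ := by
      refine mul_left_cancel (a := x) ?_
      calc x * (dd * x⁻¹ * dd⁻¹) = x * dd * x⁻¹ * dd⁻¹ := by group
        _ = w := h1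
        _ = _ := by simp only [w]; group
    have h3 : e * x⁻¹ = x⁻¹ * e := by
      calc e * x⁻¹ = r0⁻¹ * (dd * x⁻¹ * dd⁻¹) * dd := by simp only [e]; group
        _ = r0⁻¹ * (r0 * x⁻¹ * r0⁻¹) * dd := by rw [h2]
        _ = _ := by simp only [e]; group
    calc x * e = x * (e * x⁻¹) * x := by group
      _ = x * (x⁻¹ * e) * x := by rw [h3]
      _ = _ := by group
  have heO : e ∈ Data.O S := by
    refine Data.mem_O_iff.mpr ⟨hRQ heR, fun w hw => ?_⟩
    obtain ⟨v, hv, x, hx, rfl⟩ := hZdec w hw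
    have h1 := heA x hx
    have h2 : v * e = e * v := (Subgroup.mem_centralizer_iff.mp (omc_le _ hv).2 e (hRQ heR)).symm
    rw [mul_assoc, h2, ← mul_assoc, h1, mul_assoc]
  have heT : dd * r0⁻¹ ∈ T := by
    by_cases hRO : R ≤ Data.O S
    · have h1 : dd = r0 := by
        show c * r0 * c⁻¹ = r0
        rw [hfix r0 (hRO hr0R) hzr0, mul_inv_cancel_right]
      rw [h1, mul_inv_cancel]; exact one_mem T
    · have hlt : R ⊓ Data.O S < R := lt_of_le_of_ne inf_le_left fun h => hRO (h ▸ inf_le_right)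
      have h1 : R ⊓ Data.O S ≤ T := by
        by_contra hne
        exact hRmin (R ⊓ Data.O S) ⟨inferInstance, inf_le_left.trans hRle, hne⟩ hlt
      have h2 := hconjT r0 (hQS (hRQ hr0R)) e (h1 ⟨heR, heO⟩)
      have h3 : r0 * e * r0⁻¹ = dd * r0⁻¹ := by simp only [e]; group
      rwa [h3] at h2
  have hm2 : c * m⁻¹ * c⁻¹ * m ∈ T := mul_mem (hN1T (hN1c _ (inv_mem hmN1))) (hN1T hmN1)
  have h4 := mul_mem heT (hconjT r0 (hQS (hRQ hr0R)) _ hm2)
  have h5 : c * q * c⁻¹ * q⁻¹ = (dd * r0⁻¹) * (r0 * (c * m⁻¹ * c⁻¹ * m) * r0⁻¹) := by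
    simp only [dd, r0]; group
  rw [h5]; exact h4

/-- The family of all characteristic `p`-functors controls transfer. -/
theorem allFunctors_control (hp : p ≠ 2) (G : Type u) [Group G] [Finite G] :
    FamilyControlsTransferIn p (ind G (allFunctors p)) ⊤ :=
  familyTransfer_ind charP_mem (fun X _ _ _ hc hsub hquo =>
    controls_of_minimal hp (default : Sylow p X) hsub hquo hc) G (sec_self G)

end CfsgLib.CharTransfer
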