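import Cfsg.Agent.Lib.CharTransfer.Baumann
import Cfsg.Agent.S2764

/-!
A rank one subgroup above `C_S(Ω₁(Z(J(S))))` and the element outside `M` centralizing an involution.
-/

set_option autoImplicit false
set_option linter.unusedSectionVars false

namespace CfsgLib.CharTransfer

open Cfsg Matrix CfsgLib.Classical CfsgLib.LocalEven.MovesFixed CfsgLib.LocalEven.SylowIn
open scoped MatrixGroups commutatorElement Pointwise

universe u

/-- The Weyl element. -/
def wSL (K : Type) [Field K] : SL(2, K) := ⟨!![0, 1; -1, 0], by simp [Matrix.det_fin_two]⟩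

theorem sl_coe_mul {K : Type} [Field K] (A B : SL(2, K)) : (A * B).1 = A.1 * B.1 := rfl

theorem wSL_conj (K : Type) [Field K] (c : K) :
    SpecialLinearGroup.transvection (one_ne_zero : (1 : Fin 2) ≠ 0) c =
      wSL K * uSL (Multiplicative.ofAdd (-c)) * (wSL K)⁻¹ := by
  rw [eq_mul_inv_iff_mul_eq]
  apply sl_ext
  rw [sl_coe_mul, sl_coe_mul, uSL_coe]
  ext a b
  fin_cases a <;> fin_cases b <;>
    simp [wSL, SpecialLinearGroup.transvection, Matrix.transvection, Matrix.mul_apply, Fin.sum_univ_two, Matrix.single]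

theorem lower_eq_zero {K : Type} [Field K] {g : SL(2, K)}
    (h : g * uSL (Multiplicative.ofAdd (1 : K)) * g⁻¹ ∈ unipSL K) : g.1 1 0 = 0 := by
  obtain ⟨c, hc⟩ := mem_unipSL_iff.mp h
  rw [mul_inv_eq_iff_eq_mul] at hc
  have h1 := congrArg (fun a : SL(2, K) => a.1 1 1) hc
  simp only [sl_coe_mul, uSL_coe] at h1
  simp [Matrix.mul_apply, Fin.sum_univ_two] at h1
  exact h1

theorem sl2_normal_pgroup_eq_bot {K : Type} [Field K] [Fintype K] {p : ℕ} [Fact p.Prime] [CharP K p]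
    (N : Subgroup SL(2, K)) [N.Normal] (h : IsPGroup p N) : N = ⊥ := by
  rw [eq_bot_iff]
  intro g hg
  have hle : ∀ x ∈ N, x ∈ unipSL K := fun x hx => h.le_sylow_of_normal (unipSLSylow (F := K) p) hx
  obtain ⟨c, rfl⟩ := mem_unipSL_iff.mp (hle g hg)
  obtain ⟨e, he⟩ := mem_unipSL_iff.mp (hle _ ((inferInstance : N.Normal).conj_mem _ hg (wSL K)))
  rw [mul_inv_eq_iff_eq_mul] at he
  have h1 := congrArg (fun a : SL(2, K) => a.1 1 1) he
  simp only [sl_coe_mul, uSL_coe] at h1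
  simp [wSL, Matrix.mul_apply, Fin.sum_univ_two] at h1
  simp [h1]

theorem characteristic_map_equiv {G H : Type*} [Group G] [Group H] (e : G ≃* H) (K : Subgroup G) [hK : K.Characteristic] :
    (K.map e.toMonoidHom).Characteristic := by
  refine Subgroup.characteristic_iff_map_eq.mpr fun f => ?_
  have h := Subgroup.characteristic_iff_map_eq.mp hK ((e.trans f).trans e.symm)
  conv_rhs => rw [← h]
  rw [Subgroup.map_map, Subgroup.map_map]
  congr 1
  ext x
  simp

theorem characteristic_map_subtype {G : Type*} [Group G] (C : Subgroup G) [hC : C.Characteristic] (A : Subgroup C)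
    [hA : A.Characteristic] : (A.map C.subtype).Characteristic := by
  refine Subgroup.characteristic_iff_map_le.mpr fun f => ?_
  rintro _ ⟨_, ⟨a, ha, rfl⟩, rfl⟩
  have hf : ∀ c : C, f c ∈ C := fun c => Subgroup.characteristic_iff_map_le.mp hC f ⟨c, c.2, rfl⟩
  have hf' : ∀ c : C, f.symm c ∈ C := fun c => Subgroup.characteristic_iff_map_le.mp hC f.symm ⟨c, c.2, rfl⟩
  let e : C ≃* C :=
    { toFun := fun c => ⟨f c, hf c⟩
      invFun := fun c => ⟨f.symm c, hf' c⟩
      left_inv := fun c => Subtype.ext (f.symm_apply_apply _)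
      right_inv := fun c => Subtype.ext (f.apply_symm_apply _)
      map_mul' := fun a b => Subtype.ext (map_mul f _ _) }
  exact ⟨e a, Subgroup.characteristic_iff_map_le.mp hA e ⟨a, ha, rfl⟩, rfl⟩

variable {X : Type u} [Group X] [Finite X] {p : ℕ} [Fact p.Prime]
variable {S : Sylow p X} {M : Subgroup X} [(Vp p X).Normal] {r : ℕ} {F : Fin r → Type} [∀ i, Field (F i)]
  [∀ i, CharP (F i) p] [∀ i, Fintype (F i)] (d : Data S M F)

namespace Data

theorem exists_weyl : ∃ (x : X) (hx : x ∈ thompsonSubgroup p X),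
    ∀ i, d.Φ.ρ i ⟨x, Subgroup.mem_sup_left hx⟩ = wSL (F i) := by
  haveI := Cp_normal (p := p) (G := X)
  obtain ⟨l, hl⟩ := d.Φ.ρ_surj fun i => wSL (F i)
  have hl2 : (l : X) ∈ ((thompsonSubgroup p X ⊔ Cp p X : Subgroup X) : Set X) := l.2
  rw [Subgroup.mul_normal] at hl2
  obtain ⟨x, hx, c, hc, he⟩ := hl2
  refine ⟨x, hx, fun i => ?_⟩
  have e : l = ⟨x, Subgroup.mem_sup_left hx⟩ * ⟨c, Subgroup.mem_sup_right hc⟩ := Subtype.ext he.symm
  have h1 := hl i
  rw [e, map_mul, (d.mem_C_iff ⟨c, Subgroup.mem_sup_right hc⟩).mp hc i, mul_one] at h1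
  exact h1

/-- The part of `Z` fixed by the two conjugates. -/
abbrev C0 (S : Sylow p X) (x : X) : Subgroup X := Z S ⊓ (Z S).map (MulAut.conj x).toMonoidHom

/-- The subgroup generated by the two conjugates of `B`. -/
abbrev Pall (S : Sylow p X) (x : X) : Subgroup X := B S ⊔ (B S).map (MulAut.conj x).toMonoidHom

theorem Z_dec {x : X} (hx : x ∈ thompsonSubgroup p X) (hw : ∀ i, d.Φ.ρ i ⟨x, Subgroup.mem_sup_left hx⟩ = wSL (F i))
    {z : X} (hz : z ∈ Z S) : ∃ v : Vp p X, (∀ i, d.Φ.co i v 1 = 0) ∧ z * (v : X)⁻¹ ∈ C0 S x := by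
  have hv' := d.comm_V1 (inv_mem hx) (d.Z_le_V1 hz)
  rw [inv_inv] at hv'
  set v' : Vp p X := ⟨x⁻¹ * z * x * z⁻¹, hv'⟩
  obtain ⟨dd, hdd⟩ := d.Φ.Ψ_surj fun i => ![0, - d.Φ.co i v' 1]
  set e := cjv (Vp p X) x dd
  have he : ∀ i, d.Φ.co i e = ![- d.Φ.co i v' 1, 0] := fun i => by
    have h1 := d.Φ.co_cjv i ⟨x, Subgroup.mem_sup_left hx⟩ dd
    rw [hw i, show d.Φ.co i dd = _ from hdd i] at h1
    rw [show d.Φ.co i e = _ from h1]
    ext a; fin_cases a <;> simp [wSL, Matrix.mulVec, dotProduct, Fin.sum_univ_two]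
  have heZ : (e : X) ∈ Z S := (d.mem_Z_of_vp e).mpr fun i => by rw [he i]; simp
  refine ⟨e⁻¹, fun i => by rw [Frame.co_inv, he i]; simp, ?_⟩
  rw [Subgroup.coe_inv, inv_inv]
  refine ⟨mul_mem hz heZ, ⟨x⁻¹ * (z * e) * x, ?_, by simp [mul_assoc]⟩⟩
  have h2 : ((v' * dd : Vp p X) : X) ∈ Z S := (d.mem_Z_of_vp _).mpr fun i => by
    rw [Frame.co_mul, show d.Φ.co i dd = _ from hdd i]; simp
  have hcomm : z * (dd : X) = dd * z := Fusion.Thompson.mul_comm_of_isEA (omc_isEA _) (d.Z_le_V1 hz) (d.V_le_V1 dd.2)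
  have e1 : x⁻¹ * (z * (e : X)) * x = ((v' * dd : Vp p X) : X) * z := by
    show x⁻¹ * (z * (x * dd * x⁻¹)) * x = x⁻¹ * z * x * z⁻¹ * dd * z
    calc _ = x⁻¹ * z * x * dd := by group
      _ = x⁻¹ * z * x * z⁻¹ * (z * dd) := by group
      _ = x⁻¹ * z * x * z⁻¹ * (dd * z) := by rw [hcomm]
      _ = _ := by group
  rw [e1]
  exact mul_mem h2 hz

include d in
theorem Pall_le_L {x : X} : Pall S x ≤ Ctx.Lp p X := by
  haveI := Ctx.Lp_normal (p := p) (X := X)
  refine sup_le (d.B_le_L.trans inf_le_right) ?_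
  rintro _ ⟨b, hb, rfl⟩
  exact (inferInstance : (Ctx.Lp p X).Normal).conj_mem b (d.B_le_L hb).2 x

theorem Pall_comm {x : X} {g a : X} (hg : g ∈ Pall S x) (ha : a ∈ C0 S x) : g * a = a * g := by
  have h : Pall S x ≤ Subgroup.centralizer {a} := by
    refine sup_le (fun b hb => Subgroup.mem_centralizer_singleton_iff.mpr ((mem_B_iff.mp hb).2 a ha.1).symm) ?_
    rintro _ ⟨b, hb, rfl⟩
    obtain ⟨a', ha', rfl⟩ := ha.2
    refine Subgroup.mem_centralizer_singleton_iff.mpr ?_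
    show MulAut.conj x b * MulAut.conj x a' = MulAut.conj x a' * MulAut.conj x b
    rw [← map_mul, ← map_mul, (mem_B_iff.mp hb).2 a' ha']
  exact Subgroup.mem_centralizer_singleton_iff.mp (h hg)

theorem exists_Pall {x : X} (hx : x ∈ Ctx.Lp p X) (hw : ∀ i, d.Φ.ρ i ⟨x, hx⟩ = wSL (F i)) (m : ∀ i, SL(2, F i)) :
    ∃ (g : Ctx.Lp p X), (g : X) ∈ Pall S x ∧ ∀ i, d.Φ.ρ i g = m i := by
  classical
  let π : Ctx.Lp p X →* ∀ i, SL(2, F i) := MonoidHom.pi fun i => d.Φ.ρ i
  set H := ((Pall S x).subgroupOf (Ctx.Lp p X)).map π with hH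
  have h0 : ∀ i (c : F i), Pi.mulSingle i (uSL (Multiplicative.ofAdd c)) ∈ H ∧
      Pi.mulSingle i (wSL (F i) * uSL (Multiplicative.ofAdd c) * (wSL (F i))⁻¹) ∈ H := by
    intro i c
    obtain ⟨j, hj, he⟩ := d.exists_thompson (Pi.single i c)
    have hjB := thompsonS_le_B hj
    have hπ : π ⟨j, (thompsonS_le hj).2⟩ = Pi.mulSingle i (uSL (Multiplicative.ofAdd c)) := funext fun k => by
      show d.Φ.ρ k ⟨j, (thompsonS_le hj).2⟩ = _
      rw [d.rho_eq_uSL ⟨j, thompsonS_le hj⟩ k, he]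
      rcases eq_or_ne k i with rfl | hk
      · rw [Pi.single_eq_same, Pi.mulSingle_eq_same]
      · rw [Pi.single_eq_of_ne hk, Pi.mulSingle_eq_of_ne hk, ofAdd_zero, map_one]
    refine ⟨⟨⟨j, (thompsonS_le hj).2⟩, Subgroup.mem_sup_left hjB, hπ⟩,
      ⟨⟨x, hx⟩ * ⟨j, (thompsonS_le hj).2⟩ * ⟨x, hx⟩⁻¹, Subgroup.mem_sup_right ⟨j, hjB, rfl⟩, ?_⟩⟩
    rw [map_mul, map_mul, map_inv, hπ]
    funext k
    show d.Φ.ρ k ⟨x, hx⟩ * (Pi.mulSingle i (uSL (Multiplicative.ofAdd c)) : ∀ i, SL(2, F i)) k * (d.Φ.ρ k ⟨x, hx⟩)⁻¹ = _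
    rw [hw k]
    rcases eq_or_ne k i with rfl | hk
    · rw [Pi.mulSingle_eq_same, Pi.mulSingle_eq_same]
    · rw [Pi.mulSingle_eq_of_ne hk, Pi.mulSingle_eq_of_ne hk, mul_one, mul_inv_cancel]
  have h1 : ∀ i (g : SL(2, F i)), Pi.mulSingle i g ∈ H := by
    intro i g
    have e : H.comap (MonoidHom.mulSingle (fun i => SL(2, F i)) i) = ⊤ :=
      sl2_transvections_generate _ (fun c => (h0 i c).1) fun c => by
        rw [Subgroup.mem_comap, wSL_conj]
        exact (h0 i (-c)).2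
    have h2 : g ∈ H.comap (MonoidHom.mulSingle (fun i => SL(2, F i)) i) := by rw [e]; trivial
    exact h2
  suffices hm : ∀ s : Finset (Fin r), (fun i => if i ∈ s then m i else 1) ∈ H by
    obtain ⟨g, hg, he⟩ := hm Finset.univ
    exact ⟨g, hg, fun i => by
      rw [show d.Φ.ρ i g = _ from congrFun he i]
      simp⟩
  intro s
  induction s using Finset.induction with
  | empty => simp only [Finset.notMem_empty, if_false]; exact one_mem H
  | insert a s has ih =>
    have e : (fun i => if i ∈ insert a s then m i else 1) = Pi.mulSingle a (m a) * fun i => if i ∈ s then m i else 1 := by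
      funext i
      rcases eq_or_ne i a with rfl | hia
      · simp [has]
      · simp [hia, Pi.mulSingle_eq_of_ne hia]
    rw [e]
    exact mul_mem (h1 a (m a)) ih

theorem Pall_not_le {x : X} (hx : x ∈ Ctx.Lp p X) (hw : ∀ i, d.Φ.ρ i ⟨x, hx⟩ = wSL (F i)) : ¬ Pall S x ≤ M := by
  intro hle
  refine d.ctx.ne (eq_top_iff.mpr ?_)
  rw [← d.sup_LS]
  refine sup_le (fun l hl => ?_) d.ctx.le_M
  obtain ⟨g, hg, he⟩ := d.exists_Pall hx hw fun i => d.Φ.ρ i ⟨l, hl⟩
  have hc : ((g⁻¹ * ⟨l, hl⟩ : Ctx.Lp p X) : X) ∈ Cp p X :=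
    (d.mem_C_iff _).mpr fun i => by rw [map_mul, map_inv, he i, inv_mul_cancel]
  have h1 := mul_mem (hle hg) (d.ctx.C_le hc)
  simpa using h1

/-- An element of `L` acting upper-triangularly lies in `M`. -/
theorem mem_M_of_upper {h : X} (hh : h ∈ Ctx.Lp p X) (hup : ∀ i, (d.Φ.ρ i ⟨h, hh⟩).1 1 0 = 0) : h ∈ M := by
  classical
  haveI := Ctx.Lp_normal (p := p) (X := X)
  haveI := Cp_normal (p := p) (G := X)
  set H := ((S : Subgroup X) ⊓ Ctx.Lp p X) ⊔ Cp p X
  have hHL : H ≤ Ctx.Lp p X := sup_le inf_le_right le_sup_right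
  have hH1 : ∀ l : Ctx.Lp p X, (l : X) ∈ H → ∀ i, d.Φ.ρ i l ∈ unipSL (F i) := by
    intro l hl i
    have h2 : H ≤ ((unipSL (F i)).comap (d.Φ.ρ i)).map (Ctx.Lp p X).subtype :=
      sup_le (fun s hs => ⟨⟨s, hs.2⟩, d.unip.unip ⟨s, hs.2⟩ hs.1 i, rfl⟩)
        fun c hc => ⟨⟨c, Subgroup.mem_sup_right hc⟩, by
          rw [SetLike.mem_coe, Subgroup.mem_comap, (d.mem_C_iff ⟨c, Subgroup.mem_sup_right hc⟩).mp hc i]
          exact one_mem _, rfl⟩
    obtain ⟨l', hl', e⟩ := h2 hl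
    rwa [show l = l' from Subtype.ext e.symm]
  have hH2 : ∀ l : Ctx.Lp p X, (∀ i, d.Φ.ρ i l ∈ unipSL (F i)) → (l : X) ∈ H := by
    intro l hl
    choose c hc using fun i => mem_unipSL_iff.mp (hl i)
    obtain ⟨s, hsS, hs⟩ := d.unip.lift c
    have hmem : ((s⁻¹ * l : Ctx.Lp p X) : X) ∈ Cp p X :=
      (d.mem_C_iff _).mpr fun i => by rw [map_mul, map_inv, hs i, hc i, inv_mul_cancel]
    have h1 := mul_mem (Subgroup.mem_sup_left ⟨hsS, s.2⟩ : (s : X) ∈ H) (Subgroup.mem_sup_right hmem)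
    simpa using h1
  have hN : h ∈ Subgroup.normalizer (H : Set X) := by
    have hle : H.map (MulAut.conj h).toMonoidHom ≤ H := by
      rintro _ ⟨y, hy, rfl⟩
      refine hH2 (⟨h, hh⟩ * ⟨y, hHL hy⟩ * ⟨h, hh⟩⁻¹) fun i => ?_
      obtain ⟨a, ha⟩ := mem_unipSL_iff.mp (hH1 ⟨y, hHL hy⟩ hy i)
      rw [map_mul, map_mul, map_inv, ha]
      set g := d.Φ.ρ i ⟨h, hh⟩
      refine mem_unipSL_iff.mpr ⟨g.1 0 0 * g.1 0 0 * a, ?_⟩
      rw [mul_inv_eq_iff_eq_mul]
      apply sl_ext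
      have hdet := g.2
      rw [Matrix.det_fin_two, show g.1 1 0 = 0 from hup i, mul_zero, sub_zero] at hdet
      rw [sl_coe_mul, sl_coe_mul, uSL_coe, uSL_coe]
      ext u v
      fin_cases u <;> fin_cases v <;> simp [Matrix.mul_apply, Fin.sum_univ_two, show g.1 1 0 = 0 from hup i]
      linear_combination (-(g.1 0 0 * a)) * hdet
    exact map_conj_eq_iff.mp (Subgroup.eq_of_le_of_card_ge hle
      (by rw [Subgroup.card_map_of_injective (MulAut.conj h).injective]))
  refine d.ctx.top _ ?_ (fun e => ?_) hN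
  · intro s hs
    refine Subgroup.mem_normalizer_iff.mpr ?_
    have hfwd : ∀ s ∈ (S : Subgroup X), ∀ y ∈ H, s * y * s⁻¹ ∈ H := by
      intro s hs y hy
      have h2 : H ≤ H.comap (MulAut.conj s).toMonoidHom := sup_le
        (fun t ht => Subgroup.mem_sup_left ⟨(S : Subgroup X).mul_mem ((S : Subgroup X).mul_mem hs ht.1) ((S : Subgroup X).inv_mem hs),
          (inferInstance : (Ctx.Lp p X).Normal).conj_mem t ht.2 s⟩)
        fun c hc => Subgroup.mem_sup_right ((inferInstance : (Cp p X).Normal).conj_mem c hc s)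
      exact h2 hy
    exact fun y => ⟨hfwd s hs y, fun hy => by simpa [mul_assoc] using hfwd s⁻¹ (inv_mem hs) _ hy⟩
  · haveI : H.Normal := Subgroup.normalizer_eq_top_iff.mp e
    obtain ⟨i⟩ := d.r_pos
    obtain ⟨s, hsS, hs⟩ := d.unip.lift fun _ => 1
    obtain ⟨w, hw⟩ := d.Φ.ρ_surj fun i => wSL (F i)
    have h1 := hH1 (w * s * w⁻¹) ((inferInstance : H.Normal).conj_mem s (Subgroup.mem_sup_left ⟨hsS, s.2⟩) w) i
    rw [map_mul, map_mul, map_inv, hw i, hs i] at h1
    have h2 := lower_eq_zero h1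
    simp [wSL] at h2

include d in
theorem B0_ne_bot : B0 S ≠ ⊥ := by
  intro e
  apply d.ctx.omcS_ne_bot
  rw [eq_bot_iff]
  intro s hs
  have hsX : (s : X) ∈ omegaOneCenter p (S : Subgroup X) := by
    rw [Ctx.omcS_eq]; exact ⟨s, hs, rfl⟩
  obtain ⟨s', hs', he⟩ := O_le_B (d.U1_le_O (Subgroup.mem_sup_left (d.ctx.omcS_le hsX)))
  rw [SetLike.mem_coe, e, Subgroup.mem_bot] at hs'
  rw [hs', map_one] at he
  exact Subgroup.mem_bot.mpr (Subtype.ext he.symm)

include d in
/-- The element outside `M`. -/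
theorem exists_mover : ∃ (z c : X) (A : Subgroup X), z ∈ M ∧ z * z = 1 ∧ c ∉ M ∧ c * z = z * c ∧ A ≤ U1 S ∧
    (∀ a ∈ A, z * a = a * z) ∧ (∀ y ∈ Z S, ∃ v ∈ Vp p X, ∃ a ∈ A, y = a * v) ∧
    ∀ u ∈ O S, z * u = u * z → c * u = u * c := by
  classical
  obtain ⟨x, hx, hw⟩ := d.exists_weyl
  have hxL : x ∈ Ctx.Lp p X := Subgroup.mem_sup_left hx
  haveI := Ctx.Lp_normal (p := p) (X := X)
  haveI := Cp_normal (p := p) (G := X)
  haveI := B0_char (S := S)
  haveI := d.O_normal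
  obtain ⟨P1, ⟨hP1le, hBP1, hP1M⟩, hmin⟩ := (Finite.to_wellFoundedLT).wf.has_min
    {H : Subgroup X | H ≤ Pall S x ∧ B S ≤ H ∧ ¬ H ≤ M} ⟨Pall S x, le_rfl, le_sup_left, d.Pall_not_le hxL hw⟩
  have hsmall : ∀ H : Subgroup X, B S ≤ H → H < P1 → H ≤ M := fun H hBH hlt => by
    by_contra hH
    exact hmin H ⟨hlt.le.trans hP1le, hBH, hH⟩ hlt
  have hP1L : P1 ≤ Ctx.Lp p X := hP1le.trans d.Pall_le_L
  let ι : P1 →* Ctx.Lp p X := Subgroup.inclusion hP1L
  obtain ⟨i, hi⟩ : ∃ i, ∃ g : P1, (d.Φ.ρ i (ι g)).1 1 0 ≠ 0 := by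
    by_contra hno
    push Not at hno
    exact hP1M fun g hg => d.mem_M_of_upper (hP1L hg) fun i => hno i ⟨g, hg⟩
  obtain ⟨g, hg⟩ := hi
  have hunip : ∀ k, ∀ c : F k, ∃ b : P1, (b : X) ∈ B S ∧ d.Φ.ρ k (ι b) = uSL (Multiplicative.ofAdd c) := by
    intro k c
    obtain ⟨j, hj, he⟩ := d.exists_thompson (Pi.single k c)
    refine ⟨⟨j, hBP1 (thompsonS_le_B hj)⟩, thompsonS_le_B hj, ?_⟩
    show d.Φ.ρ k ⟨j, (thompsonS_le hj).2⟩ = _
    rw [d.rho_eq_uSL ⟨j, thompsonS_le hj⟩ k, he, Pi.single_eq_same]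
  set f1 : P1 →* SL(2, F i) := (d.Φ.ρ i).comp ι
  have hf1 : f1.range = ⊤ := by
    set U := unipSLSylow (F := F i) p
    have hUle : (U : Subgroup SL(2, F i)) ≤ f1.range := by
      rintro _ ⟨c, rfl⟩
      obtain ⟨b, -, he⟩ := hunip i c.toAdd
      exact ⟨b, he⟩
    have hne : U ≠ (f1 g) • U := by
      intro e
      apply hg
      refine lower_eq_zero ?_
      have h1 : f1 g * uSL (Multiplicative.ofAdd (1 : F i)) * (f1 g)⁻¹ ∈ ((f1 g • U : Sylow p _) : Subgroup SL(2, F i)) :=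
        ⟨_, ⟨_, rfl⟩, rfl⟩
      rw [← e] at h1
      exact h1
    refine eq_top_iff.mpr ((sylowSL2_sup_eq_top U _ hne).symm.le.trans (sup_le hUle ?_))
    rintro _ ⟨a, ha, rfl⟩
    exact mul_mem (mul_mem ⟨g, rfl⟩ (hUle ha)) (inv_mem ⟨g, rfl⟩)
  obtain ⟨P, hP⟩ : ∃ P : Sylow p P1, (P : Subgroup P1) = (B S).subgroupOf P1 := by
    have hBp : IsPGroup p (B S) := S.2.to_le (Subgroup.map_subtype_le _)
    obtain ⟨P, hP⟩ := (hBp.comap_of_injective P1.subtype P1.subtype_injective).exists_le_sylow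
    refine ⟨P, le_antisymm (fun y hy => ?_) hP⟩
    show (y : X) ∈ B S
    have hPu : ∀ k, ∀ a ∈ (P : Subgroup P1), d.Φ.ρ k (ι a) ∈ unipSL (F k) := by
      intro k a ha
      have hle : (unipSLSylow (F := F k) p : Subgroup SL(2, F k)) ≤ (P : Subgroup P1).map ((d.Φ.ρ k).comp ι) := by
        rintro _ ⟨c, rfl⟩
        obtain ⟨b, hb, he⟩ := hunip k c.toAdd
        exact ⟨b, hP hb, he⟩
      have h3 := (unipSLSylow (F := F k) p).is_maximal' (P.2.map _) hle
      have h4 : d.Φ.ρ k (ι a) ∈ (P : Subgroup P1).map ((d.Φ.ρ k).comp ι) := ⟨a, ha, rfl⟩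
      rw [h3] at h4
      exact h4
    choose c hc using fun k => mem_unipSL_iff.mp (hPu k y hy)
    obtain ⟨j, hj, he⟩ := d.exists_thompson c
    set jj : P1 := ⟨j, hBP1 (thompsonS_le_B hj)⟩
    have hcC : ((ι (jj⁻¹ * y) : Ctx.Lp p X) : X) ∈ Cp p X := (d.mem_C_iff _).mpr fun k => by
      rw [map_mul, map_mul, map_inv, map_inv, show d.Φ.ρ k (ι y) = _ from hc k,
        show d.Φ.ρ k (ι jj) = _ from (d.rho_eq_uSL ⟨j, thompsonS_le hj⟩ k).trans (by rw [he]), inv_mul_cancel]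
    haveI := LocalEven.SylowIn.pCore_normal X p
    have hQ : ((jj⁻¹ * y : P1) : X) ∈ pCore p X := by
      refine le_of_sylow_inf_le S d.sylow_inf_C_le (P := (P : Subgroup P1).map P1.subtype ⊓ Cp p X)
        ((P.2.map P1.subtype).to_le inf_le_left) inf_le_right ⟨⟨jj⁻¹ * y, ?_, rfl⟩, hcC⟩
      exact mul_mem (inv_mem (hP (thompsonS_le_B hj))) hy
    have hyS : (y : X) ∈ (S : Subgroup X) := by
      have h5 := mul_mem (Fusion.Thompson.thompsonSubgroupOf_le _ hj : j ∈ (S : Subgroup X)) (Solvable.Cores.pCore_le_sylow S hQ)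
      simpa [jj] using h5
    refine mem_B_iff.mpr ⟨hyS, fun w hw' => ?_⟩
    obtain ⟨v, hv, hA⟩ := d.Z_dec hx hw hw'
    have h6 := Pall_comm (hP1le y.2) hA
    have h7 := (d.second_eq_zero_iff v).mp hv y ⟨hyS, hP1L y.2⟩
    calc w * (y : X) = (w * (v : X)⁻¹) * ((v : X) * y) := by group
      _ = (w * (v : X)⁻¹) * ((y : X) * v) := by rw [h7]
      _ = (w * (v : X)⁻¹ * y) * v := by group
      _ = ((y : X) * (w * (v : X)⁻¹)) * v := by rw [h6]
      _ = _ := by group
  have hOle : (O S).subgroupOf P1 ≤ pCore p P1 :=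
    LocalEven.SylowIn.le_pCore ((Solvable.Cores.isPGroup_pCore p).to_le (inf_le_left : O S ≤ pCore p X) |>.comap_of_injective
      P1.subtype P1.subtype_injective)
  have hcoreB : ∀ k ∈ pCore p P1, (k : X) ∈ B S := fun k hk => by
    have h1 := Solvable.Cores.pCore_le_sylow P hk
    rw [hP] at h1
    exact h1
  have hcoreS : ∀ k ∈ pCore p P1, (k : X) ∈ M := fun k hk => d.ctx.le_M (mem_B_iff.mp (hcoreB k hk)).1
  have hcon : Subgroup.centralizer (pCore p P1 : Set P1) ≤ pCore p P1 := by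
    intro a ha
    apply hOle
    show (a : X) ∈ O S
    refine d.centralizer_O_le (Subgroup.mem_centralizer_iff.mpr fun o ho => ?_)
    exact congrArg Subtype.val (Subgroup.mem_centralizer_iff.mp ha ⟨o, hBP1 (O_le_B ho)⟩
      (hOle (show (⟨o, hBP1 (O_le_B ho)⟩ : P1) ∈ (O S).subgroupOf P1 from ho)))
  have hE2 : ∃! M' : Subgroup P1, IsCoatom M' ∧ (P : Subgroup P1) ≤ M' := by
    have hne : M.subgroupOf P1 ≠ ⊤ := fun e => hP1M (Subgroup.subgroupOf_eq_top.mp e)
    have hbig : ∀ H : Subgroup P1, (P : Subgroup P1) ≤ H → H ≠ ⊤ → H ≤ M.subgroupOf P1 := by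
      intro H hPH hH y hy
      refine hsmall (H.map P1.subtype) (fun b hb => ⟨⟨b, hBP1 hb⟩, hPH (by rw [hP]; exact hb), rfl⟩) ?_ ⟨y, hy, rfl⟩
      refine lt_of_le_of_ne (Subgroup.map_subtype_le _) fun e => hH (eq_top_iff.mpr fun a _ => ?_)
      have h1 : (a : X) ∈ H.map P1.subtype := by rw [e]; exact a.2
      obtain ⟨a', ha', hea⟩ := h1
      rwa [← (show a' = a from Subtype.ext hea)]
    have hPM : (P : Subgroup P1) ≤ M.subgroupOf P1 := by
      rw [hP]
      exact fun b hb => d.ctx.le_M (mem_B_iff.mp hb).1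
    refine ⟨M.subgroupOf P1, ⟨⟨hne, fun N hN => by_contra fun hN' => hN.not_ge (hbig N (hPM.trans hN.le) hN')⟩, hPM⟩, ?_⟩
    rintro N ⟨hN1, hN2⟩
    exact (hN1.le_iff.mp (hbig N hN2 hN1.1)).resolve_left hne |>.symm
  have hd : ∀ T : Subgroup ↥(P : Subgroup P1), T ≠ ⊥ → T.Characteristic → ¬ (T.map (P : Subgroup P1).subtype).Normal := by
    intro T hT hTc hn
    let e : ↥(P : Subgroup P1) ≃* ↥(B0 S) := ((MulEquiv.subgroupCongr hP).trans
      (Subgroup.subgroupOfEquivOfLe hBP1)).trans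
      (Subgroup.equivMapOfInjective (B0 S) (S : Subgroup X).subtype (S : Subgroup X).subtype_injective).symm
    have he : ∀ a, (((e a : ↥(S : Subgroup X))) : X) = ((a : P1) : X) := fun a => by
      have h1 := (Subgroup.equivMapOfInjective (B0 S) (S : Subgroup X).subtype (S : Subgroup X).subtype_injective).apply_symm_apply
        (((MulEquiv.subgroupCongr hP).trans (Subgroup.subgroupOfEquivOfLe hBP1)) a)
      exact congrArg Subtype.val h1
    haveI := hTc
    haveI := characteristic_map_equiv e T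
    have hc := characteristic_map_subtype (B0 S) (T.map e.toMonoidHom)
    set T' := (T.map e.toMonoidHom).map (B0 S).subtype with hT'
    have hmap : T'.map (S : Subgroup X).subtype = (T.map (P : Subgroup P1).subtype).map P1.subtype := by
      ext y
      constructor
      · rintro ⟨_, ⟨_, ⟨a, ha, rfl⟩, rfl⟩, rfl⟩
        exact ⟨(a : P1), ⟨a, ha, rfl⟩, (he a).symm⟩
      · rintro ⟨_, ⟨a, ha, rfl⟩, rfl⟩
        exact ⟨(e a : ↥(S : Subgroup X)), ⟨e a, ⟨a, ha, rfl⟩, rfl⟩, he a⟩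
    have hne : T' ≠ ⊥ := by
      rw [hT', Ne, Subgroup.map_eq_bot_iff_of_injective _ (B0 S).subtype_injective,
        Subgroup.map_eq_bot_iff_of_injective _ (f := e.toMonoidHom) e.injective]
      exact hT
    apply hP1M
    refine le_trans ?_ (d.ctx.normalizer_char_le hne hc)
    rw [hmap]
    have h1 := Subgroup.le_normalizer_map (H := T.map (P : Subgroup P1).subtype) P1.subtype
    rw [Subgroup.normalizer_eq_top_iff.mpr hn, ← MonoidHom.range_eq_map, Subgroup.range_subtype] at h1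
    exact h1
  obtain ⟨n, hn, hcard⟩ := FiniteField.card (F i) p
  let f2 : P1 →* ProjectiveSpecialLinearGroup (Fin 2) (F i) := (QuotientGroup.mk' _).comp f1
  have hf2 : Function.Surjective f2 := (QuotientGroup.mk'_surjective _).comp (MonoidHom.range_eq_top.mp hf1)
  obtain ⟨⟨e⟩, hchief⟩ := Cfsg.Agent.S2764.result P hcon hE2 f2.ker (F i) n n.pos hcard
    ⟨QuotientGroup.quotientKerEquivOfSurjective f2 hf2⟩ hd
  set core := pCore p P1
  haveI : core.Normal := LocalEven.SylowIn.pCore_normal P1 p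
  have hcorep : IsPGroup p core := Solvable.Cores.isPGroup_pCore p
  -- the involution
  let q : P1 →* SL(2, F i) := e.toMonoidHom.comp (QuotientGroup.mk' core)
  have hq : Function.Surjective q := e.surjective.comp (QuotientGroup.mk'_surjective core)
  have hqker : ∀ a, q a = 1 ↔ a ∈ core := fun a => by
    show e _ = 1 ↔ _
    rw [MulEquiv.map_eq_one_iff]
    exact QuotientGroup.eq_one_iff a
  obtain ⟨g0, hg0⟩ := hq ⟨-1, by simp [Matrix.det_neg]⟩
  set m := ordCompl[2] (orderOf g0)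
  have hm : Odd m := Nat.not_even_iff_odd.mp fun hev =>
    Nat.not_dvd_ordCompl Nat.prime_two (orderOf_pos g0).ne' (even_iff_two_dvd.mp hev)
  set z := g0 ^ m
  have hqz : (q z).1 = -1 := by
    rw [map_pow, hg0]
    exact hm.neg_one_pow
  have hzo : (z * z) ^ (2 ^ (orderOf g0).factorization 2) = 1 := by
    rw [← pow_two, ← pow_mul, mul_comm, pow_mul, ← pow_mul g0, mul_comm m, Nat.ordProj_mul_ordCompl_eq_self,
      pow_orderOf_eq_one, one_pow]
  have hzz : z * z = 1 := by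
    have h1 : z * z ∈ core := (hqker _).mp (sl_ext (by
      rw [map_mul, sl_coe_mul, hqz]; simp))
    obtain ⟨k, hk⟩ := hcorep ⟨_, h1⟩
    exact KGroups.CharP.eq_one_of_pow_coprime (n := 2 ^ (orderOf g0).factorization 2)
      (Nat.Coprime.pow_left _ ((Nat.coprime_primes Nat.prime_two Fact.out).mpr (Ne.symm d.ctx.hp))) hzo
      (k := k) (congrArg Subtype.val hk)
  have hzcomm : ∀ a, z * a * z⁻¹ * a⁻¹ ∈ core := fun a => (hqker _).mp (by
    rw [map_mul, map_mul, map_mul, map_inv, map_inv, mul_inv_eq_one, mul_inv_eq_iff_eq_mul]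
    apply sl_ext
    rw [sl_coe_mul, sl_coe_mul, hqz]
    simp)
  have hzM : (z : X) ∈ M := by
    refine d.ctx.normalizer_char_le d.B0_ne_bot inferInstance ?_
    have hfwd : ∀ a : X, a ∈ B S → (z : X) * a * (z : X)⁻¹ ∈ B S := fun a ha => by
      have h1 := mul_mem (hcoreB _ (hzcomm ⟨a, hBP1 ha⟩)) ha
      simpa using h1
    have hzinv : (z : X)⁻¹ = z := inv_eq_of_mul_eq_one_right (congrArg Subtype.val hzz)
    refine Subgroup.mem_normalizer_iff.mpr fun a => ⟨hfwd a, fun ha => ?_⟩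
    have h1 := hfwd _ ha
    rw [hzinv] at h1
    have h2 : (z : X) * (z : X) = 1 := congrArg Subtype.val hzz
    rwa [show (z : X) * (z * a * z) * z = ((z : X) * z) * a * (z * z) by group, h2, one_mul, mul_one] at h1
  -- the fixed points of the involution on the natural factors
  have hnat : ∀ (U W : Subgroup P1), U ≤ core → IsChiefFactor U W → ¬ ⁅U, (⊤ : Subgroup P1)⁆ ≤ W →
      ∀ u ∈ U, z * u = u * z → u ∈ W := by
    intro U W hU hch hnc u hu hcomm
    haveI : W.Normal := hch.2.2.1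
    obtain ⟨-, ρW, ψ, hρs, -, hρe⟩ := hchief U W hU hch hnc
    let f : P1 →* SL(2, F i) := (ρW.comp Subgroup.topEquiv.symm.toMonoidHom).comp (QuotientGroup.mk' W)
    have hf : Function.Surjective f :=
      (hρs.comp Subgroup.topEquiv.symm.surjective).comp (QuotientGroup.mk'_surjective W)
    haveI : (core.map f).Normal := Subgroup.Normal.map inferInstance f hf
    have hker : core ≤ f.ker := (Subgroup.map_eq_bot_iff _).mp (sl2_normal_pgroup_eq_bot _ (hcorep.map f))
    let fb : SL(2, F i) →* SL(2, F i) := (QuotientGroup.lift core f hker).comp e.symm.toMonoidHom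
    have hfb : ∀ a, fb (q a) = f a := fun a => by simp [fb, q]
    have hfbs : Function.Surjective fb := fun b => by
      obtain ⟨a, ha⟩ := hf b; exact ⟨q a, by rw [hfb, ha]⟩
    have hfz : f z ≠ 1 := by
      intro h1
      rw [← hfb, ← map_one fb] at h1
      have h2 := congrArg (fun a : SL(2, F i) => a.1 0 0) ((Finite.injective_iff_surjective.mpr hfbs) h1)
      simp only [hqz] at h2
      simp at h2
      exact d.two_ne i (by linear_combination -h2)
    have hfz2 := sl2_involution (d.two_ne i) (f z) hfz (by rw [← map_mul, hzz, map_one])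
    set ub : U.map (QuotientGroup.mk' W) := ⟨QuotientGroup.mk' W u, ⟨u, hu, rfl⟩⟩
    obtain ⟨w, hw1, hw2⟩ := hρe ⟨QuotientGroup.mk' W z, trivial⟩ ub
    have hwu : w = ub := Subtype.ext (by
      rw [hw1]
      show QuotientGroup.mk' W z * QuotientGroup.mk' W u * (QuotientGroup.mk' W z)⁻¹ = QuotientGroup.mk' W u
      rw [← map_mul, hcomm, map_mul, mul_inv_cancel_right])
    rw [hwu, show (ρW ⟨QuotientGroup.mk' W z, trivial⟩).1 = -1 from hfz2, Matrix.neg_mulVec, Matrix.one_mulVec] at hw2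
    have hψ : ψ (Additive.ofMul ub) = 0 := by
      ext a
      have h3 := congrFun hw2 a
      simp at h3
      have h4 : (2 : F i) * ψ (Additive.ofMul ub) a = 0 := by linear_combination h3
      simpa [d.two_ne i] using h4
    have h5 : ub = 1 := Additive.ofMul.injective (ψ.injective (hψ.trans (map_zero ψ).symm))
    exact (QuotientGroup.eq_one_iff u).mp (congrArg Subtype.val h5)
  -- the element outside `M`
  obtain ⟨y, hy, hyM⟩ : ∃ y : P1, (orderOf y).Coprime p ∧ (y : X) ∉ M := by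
    by_contra hno
    push Not at hno
    let N : Subgroup P1 := Subgroup.closure {a | (orderOf a).Coprime p}
    haveI : N.Normal := by
      refine ⟨fun a ha b => ?_⟩
      have h1 : N ≤ N.comap (MulAut.conj b).toMonoidHom := (Subgroup.closure_le _).mpr fun a ha =>
        Subgroup.subset_closure (show (orderOf ((MulAut.conj b) a)).Coprime p by
          rw [MulEquiv.orderOf_eq]; exact ha)
      exact h1 ha
    have hp1 : IsPGroup p (P1 ⧸ N) := fun a => by
      obtain ⟨a, rfl⟩ := QuotientGroup.mk'_surjective N a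
      refine ⟨(orderOf a).factorization p, ?_⟩
      rw [← map_pow]
      refine (QuotientGroup.eq_one_iff _).mpr (Subgroup.subset_closure ?_)
      show (orderOf (a ^ p ^ (orderOf a).factorization p)).Coprime p
      have hd : p ^ (orderOf a).factorization p ∣ orderOf a := Nat.ordProj_dvd _ _
      rw [orderOf_pow, Nat.gcd_eq_right hd]
      exact (Nat.coprime_ordCompl Fact.out (orderOf_pos _).ne').symm
    have htop : (P : Subgroup P1).map (QuotientGroup.mk' N) = ⊤ := by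
      rw [← Sylow.coe_mapSurjective (QuotientGroup.mk'_surjective N)]
      exact ((P.mapSurjective (QuotientGroup.mk'_surjective N)).is_maximal'
        (hp1.to_subgroup ⊤) le_top).symm
    apply hP1M
    intro a ha
    have h1 : QuotientGroup.mk' N (⟨a, ha⟩ : P1) ∈ (P : Subgroup P1).map (QuotientGroup.mk' N) := by rw [htop]; trivial
    obtain ⟨b, hb, he⟩ := h1
    have h2 : b⁻¹ * ⟨a, ha⟩ ∈ N := QuotientGroup.eq.mp he
    have h3 : N ≤ M.subgroupOf P1 := (Subgroup.closure_le _).mpr fun s hs => hno s hs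
    have hbM : (b : X) ∈ M := by
      rw [SetLike.mem_coe, hP] at hb
      exact d.ctx.le_M (mem_B_iff.mp hb).1
    have h4 := mul_mem hbM (h3 h2)
    simpa using h4
  set k := z * (y * z * y⁻¹) with hk
  have hzinv : z⁻¹ = z := inv_eq_of_mul_eq_one_right hzz
  have hkc : k ∈ core := by
    have h3 := (inferInstance : core.Normal).conj_mem _ (inv_mem (hzcomm y)) z
    have e : k = z * (z * y * z⁻¹ * y⁻¹)⁻¹ * z⁻¹ := by
      calc k = k * (z * z)⁻¹ := by rw [hzz, inv_one, mul_one]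
        _ = _ := by rw [hk]; group
    rwa [e]
  obtain ⟨a, ha⟩ := hcorep ⟨k, hkc⟩
  have hka : k ^ p ^ a = 1 := congrArg Subtype.val ha
  have hzkz : z * k * z = k⁻¹ := by
    refine eq_inv_of_mul_eq_one_left ?_
    calc z * k * z * k = (z * z) * (y * z * y⁻¹) * (z * z) * (y * z * y⁻¹) := by rw [hk]; group
      _ = (y * z * y⁻¹) * (y * z * y⁻¹) := by rw [hzz, one_mul, mul_one]
      _ = y * (z * z) * y⁻¹ := by group
      _ = 1 := by rw [hzz, mul_one, mul_inv_cancel]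
  set j := (p ^ a - 1) / 2
  have h2j : 2 * j + 1 = p ^ a := by
    obtain ⟨b, hb⟩ := (d.ctx.odd.pow (n := a))
    omega
  set nn := k ^ j
  have hconj : nn * z * nn⁻¹ = y * z * y⁻¹ := by
    have h1 : z * nn * z = nn⁻¹ := by
      have h : z * k * z⁻¹ = k⁻¹ := by rw [hzinv]; exact hzkz
      show z * k ^ j * z = (k ^ j)⁻¹
      rw [← inv_pow, ← h, conj_pow, hzinv]
    calc nn * z * nn⁻¹ = (z * z) * (nn * z * nn⁻¹) := by rw [hzz, one_mul]
      _ = z * (z * nn * z) * nn⁻¹ := by group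
      _ = z * (nn⁻¹ * nn⁻¹) := by rw [h1]; group
      _ = z * k := by
        rw [← _root_.mul_inv_rev, ← pow_add]
        congr 1
        refine inv_eq_of_mul_eq_one_right ?_
        rw [← pow_succ, show j + j + 1 = p ^ a by omega, hka]
      _ = (z * z) * (y * z * y⁻¹) := by rw [hk]; group
      _ = _ := by rw [hzz, one_mul]
  have hnn : nn ∈ core := pow_mem hkc _
  set c0 := nn⁻¹ * y
  have hc0 : c0 * z = z * c0 := by
    calc c0 * z = nn⁻¹ * (y * z * y⁻¹) * y := by simp only [c0]; group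
      _ = nn⁻¹ * (nn * z * nn⁻¹) * y := by rw [hconj]
      _ = _ := by simp only [c0]; group
  set pw := p ^ (orderOf c0).factorization p
  set c := c0 ^ pw
  have hcz : c * z = z * c := ((show Commute c0 z from hc0).pow_left pw).eq
  have hcop : (orderOf c).Coprime p := by
    have hd : pw ∣ orderOf c0 := Nat.ordProj_dvd _ _
    rw [orderOf_pow, Nat.gcd_eq_right hd]
    exact (Nat.coprime_ordCompl Fact.out (orderOf_pos _).ne').symm
  have hcM : (c : X) ∉ M := by
    intro hc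
    have h1 : c⁻¹ * y ^ pw ∈ core := (hqker _).mp (by
      have e1 : q c0 = q y := by rw [map_mul, map_inv, (hqker nn).mpr hnn, inv_one, one_mul]
      rw [map_mul, map_inv, map_pow, map_pow, e1, inv_mul_cancel])
    have h2 : ((y ^ pw : P1) : X) ∈ M := by simpa using mul_mem hc (hcoreS _ h1)
    obtain ⟨t, ht⟩ := exists_pow_eq_self_of_coprime (n := pw) (x := y)
      (Nat.Coprime.pow_left _ hy.symm)
    exact hyM (ht ▸ (SubmonoidClass.coe_pow (y ^ pw) t ▸ pow_mem h2 t))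
  have hfix : ∀ (U : Subgroup P1), U.Normal → U ≤ core → ∀ u ∈ U, z * u = u * z → c * u = u * c := by
    intro U
    induction U using (Finite.to_wellFoundedLT (α := Subgroup P1)).wf.induction with
    | _ U ih =>
      intro hUn hUc u hu hcomm
      rcases eq_or_ne U ⊥ with rfl | hUb
      · rw [Subgroup.mem_bot] at hu; simp [hu]
      obtain ⟨W, ⟨hWn, hWU⟩, hWmax⟩ := (Finite.to_wellFoundedGT).wf.has_min
        {W : Subgroup P1 | W.Normal ∧ W < U} ⟨⊥, inferInstance, bot_lt_iff_ne_bot.mpr hUb⟩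
      have hch : IsChiefFactor U W := ⟨hWU, hUn, hWn, fun N hN h1 h2 => by
        by_contra hboth
        push Not at hboth
        exact hWmax N ⟨hN, lt_of_le_of_ne h2 hboth.2⟩ (lt_of_le_of_ne h1 (Ne.symm hboth.1))⟩
      by_cases hcen : ⁅U, (⊤ : Subgroup P1)⁆ ≤ W
      · have hwW : c * u * c⁻¹ * u⁻¹ ∈ W := by
          have h1 := hcen (Subgroup.commutator_mem_commutator hu (Subgroup.mem_top c))
          have h2 := inv_mem h1
          rwa [commutatorElement_inv, commutatorElement_def] at h2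
        have hwz : z * (c * u * c⁻¹ * u⁻¹) = (c * u * c⁻¹ * u⁻¹) * z := by
          have hC : Commute z c := hcz.symm
          exact (((hC.mul_right hcomm).mul_right hC.inv_right).mul_right (show Commute z u from hcomm).inv_right).eq
        have h3 := ih W hWU hWn (hWU.le.trans hUc) _ hwW hwz
        obtain ⟨kk, hkk⟩ := hcorep ⟨_, hUc (hWU.le hwW)⟩
        have h4 : c * u * c⁻¹ * u⁻¹ = 1 := LocalEvenB.PushingUp.fixed_of_step (x := c) (u := u)
          (c := c * u * c⁻¹ * u⁻¹) (by group) h3 hcop ⟨kk, congrArg Subtype.val hkk⟩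
        rwa [mul_inv_eq_one, mul_inv_eq_iff_eq_mul] at h4
      · exact ih W hWU hWn (hWU.le.trans hUc) u (hnat U W hUc hch hcen u hu hcomm) hcomm
  refine ⟨(z : X), (c : X), C0 S x, hzM, congrArg Subtype.val hzz, hcM, congrArg Subtype.val hcz,
    fun a ha => Subgroup.mem_sup_right ha.1, fun a ha => Pall_comm (hP1le z.2) ha, fun w hw' => ?_, fun u hu hcomm => ?_⟩
  · obtain ⟨v, -, hA⟩ := d.Z_dec hx hw hw'
    exact ⟨v, v.2, _, hA, by simp⟩
  · have h1 := hfix core inferInstance le_rfl ⟨u, hBP1 (O_le_B hu)⟩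
      (hOle (show (⟨u, hBP1 (O_le_B hu)⟩ : P1) ∈ (O S).subgroupOf P1 from hu)) (Subtype.ext hcomm)
    exact congrArg Subtype.val h1

end Data

end CfsgLib.CharTransfer
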