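import Cfsg.Agent.Lib.CharTransfer.FromBlocks
import Cfsg.Agent.Lib.LocalEven.MovesFixed.LocalCStar
import Cfsg.Agent.Lib.OddOrder.PStable
import Cfsg.Agent.S2981

/-!
The constrained group all whose overgroups of a Sylow `p`-subgroup lie in one maximal subgroup, and its frame.
-/

set_option autoImplicit false
set_option linter.unusedSectionVars false

namespace CfsgLib.CharTransfer

open Cfsg Matrix CfsgLib.Classical CfsgLib.LocalEven.MovesFixed CfsgLib.LocalEven.SylowIn
open scoped MatrixGroups commutatorElement Pointwise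

theorem omegaOne_map_injective {G H : Type*} [Group G] [Group H] (p : ℕ) (f : G →* H) (hf : Function.Injective f)
    (K : Subgroup G) : (omegaOne p K).map f = omegaOne p (K.map f) := by
  rw [omegaOne, omegaOne, MonoidHom.map_closure]
  congr 1
  ext x
  constructor
  · rintro ⟨y, hy, rfl⟩
    exact ⟨⟨y, hy.1, rfl⟩, by rw [← map_pow, hy.2, map_one]⟩
  · rintro ⟨⟨y, hy, rfl⟩, hp⟩
    exact ⟨y, ⟨hy, (map_eq_one_iff _ hf).1 (by rw [map_pow]; exact hp)⟩, rfl⟩

theorem omegaOne_characteristic {G : Type*} [Group G] (p : ℕ) (K : Subgroup G) [K.Characteristic] :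
    (omegaOne p K).Characteristic :=
  Subgroup.characteristic_iff_map_eq.mpr fun e => by
    rw [omegaOne_map_injective p e.toMonoidHom e.injective, Subgroup.characteristic_iff_map_eq.mp inferInstance e]

theorem isPGroup_pi {p r : ℕ} {A : Fin r → Type*} [∀ i, Group (A i)] (H : ∀ i, Subgroup (A i))
    (h : ∀ i, IsPGroup p (H i)) : IsPGroup p (Subgroup.pi Set.univ H) := by
  intro g
  choose k hk using fun i => h i ⟨(g : ∀ i, A i) i, g.2 i trivial⟩
  refine ⟨∑ i, k i, Subtype.ext (funext fun i => ?_)⟩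
  obtain ⟨d, hd⟩ : p ^ k i ∣ p ^ (∑ j, k j) :=
    pow_dvd_pow p (Finset.single_le_sum (f := k) (fun j _ => Nat.zero_le (k j)) (Finset.mem_univ i))
  show ((g : ∀ i, A i) i) ^ p ^ (∑ j, k j) = 1
  rw [hd, pow_mul, show ((g : ∀ i, A i) i) ^ p ^ k i = 1 from congrArg Subtype.val (hk i), one_pow]

/-- The intersection of a Sylow subgroup with a normal subgroup is a Sylow subgroup of the latter. -/
theorem exists_sylow_inf {G : Type*} [Group G] [Finite G] {p : ℕ} [Fact p.Prime] (S : Sylow p G) (L : Subgroup G)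
    [L.Normal] : ∃ P : Sylow p L, (P : Subgroup L) = (S : Subgroup G).subgroupOf L := by
  have hp : IsPGroup p ((S : Subgroup G).subgroupOf L) := S.2.comap_of_injective L.subtype L.subtype_injective
  obtain ⟨P, hP⟩ := hp.exists_le_sylow
  obtain ⟨R, hR⟩ := (P.2.map L.subtype).exists_le_sylow
  obtain ⟨g, hg⟩ := MulAction.exists_smul_eq G R S
  refine ⟨P, (Subgroup.eq_of_le_of_card_ge hP ?_).symm⟩
  let f : ↥(P : Subgroup L) → (S : Subgroup G).subgroupOf L := fun x =>
    ⟨⟨g * ((x : L) : G) * g⁻¹, Subgroup.Normal.conj_mem inferInstance _ (x : L).2 g⟩, by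
      show g * ((x : L) : G) * g⁻¹ ∈ (S : Subgroup G)
      rw [← hg]
      exact ⟨((x : L) : G), hR ⟨x, x.2, rfl⟩, rfl⟩⟩
  exact Nat.card_le_card_of_injective f fun a b hab => Subtype.ext (Subtype.ext (by
    have h := congrArg (fun z : (S : Subgroup G).subgroupOf L => ((z : L) : G)) hab
    simpa [f] using h))

universe u

variable {X : Type u} [Group X] [Finite X] {p : ℕ} [Fact p.Prime]

/-- `X` is constrained, all overgroups of `S` lie in `M`, and no characteristic subgroup of `S` is normal. -/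
structure Ctx (S : Sylow p X) (M : Subgroup X) : Prop where
  hp : p ≠ 2
  con : Subgroup.centralizer (pCore p X : Set X) ≤ pCore p X
  ne : M ≠ ⊤
  top : ∀ H : Subgroup X, (S : Subgroup X) ≤ H → H ≠ ⊤ → H ≤ M
  char : ∀ T : Subgroup ↥(S : Subgroup X), T ≠ ⊥ → T.Characteristic → ¬ (T.map (S : Subgroup X).subtype).Normal

namespace Ctx

variable {S : Sylow p X} {M : Subgroup X} (h : Ctx S M)

theorem odd (h : Ctx S M) : Odd p := (Fact.out : p.Prime).odd_of_ne_two h.hp

theorem sylow_ne_bot (h : Ctx S M) : (S : Subgroup X) ≠ ⊥ := by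
  intro e
  have hQ : pCore p X = ⊥ := le_bot_iff.mp (e ▸ Solvable.Cores.pCore_le_sylow S)
  have htop : (⊤ : Subgroup X) ≤ ⊥ := by
    have h1 := h.con
    rw [hQ] at h1
    exact le_trans (fun x _ => by simp [Subgroup.mem_centralizer_iff]) h1
  haveI : Subsingleton X := subsingleton_of_forall_eq 1 fun x => Subgroup.mem_bot.mp (htop trivial)
  exact h.ne (Subsingleton.elim _ _)

theorem not_normal (h : Ctx S M) : ¬ (S : Subgroup X).Normal := fun hn => by
  refine h.char ⊤ ?_ inferInstance ?_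
  · intro e
    apply h.sylow_ne_bot
    have h1 := congrArg (Subgroup.map (S : Subgroup X).subtype) e
    rwa [← MonoidHom.range_eq_map, Subgroup.range_subtype, Subgroup.map_bot] at h1
  · rwa [← MonoidHom.range_eq_map, Subgroup.range_subtype]

theorem le_M (h : Ctx S M) : (S : Subgroup X) ≤ M := by
  refine h.top _ le_rfl fun e => h.not_normal ?_
  rw [e]; infer_instance

theorem eq_top_or_le (h : Ctx S M) {H : Subgroup X} (hS : (S : Subgroup X) ≤ H) : H = ⊤ ∨ H ≤ M :=
  (eq_or_ne H ⊤).imp id (h.top H hS)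

theorem normalizer_char_le (h : Ctx S M) {T : Subgroup ↥(S : Subgroup X)} (hT : T ≠ ⊥) (hc : T.Characteristic) :
    Subgroup.normalizer ((T.map (S : Subgroup X).subtype : Subgroup X) : Set X) ≤ M := by
  haveI := hc
  refine h.top _ ?_ fun e => h.char T hT hc (Subgroup.normalizer_eq_top_iff.mp e)
  exact Subgroup.le_normalizer.trans (OddOrder.PStable.normalizer_le_normalizer_map (S : Subgroup X) T)

theorem coatom (h : Ctx S M) : IsCoatom M :=
  ⟨h.ne, fun N hN => by_contra fun hN' => hN.not_ge (h.top N (h.le_M.trans hN.le) hN')⟩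

theorem isPMinimal (h : Ctx S M) : IsPMinimal p X := by
  intro P
  obtain ⟨g, hg⟩ := MulAction.exists_smul_eq X S P
  have hP : (P : Subgroup X) = MulAut.conj g • (S : Subgroup X) := by rw [← hg, Sylow.coe_subgroup_smul]
  refine ⟨fun hn => h.not_normal ?_, MulAut.conj g • M, ⟨?_, ?_⟩, ?_⟩
  · haveI := hn
    have e := Sylow.unique_of_normal P hn
    rw [show S = P from (e.uniq S).trans (e.uniq P).symm]; exact hn
  · exact ((MulAut.conj g).mapSubgroup.isCoatom_iff M).mpr h.coatom
  · rw [hP, Subgroup.pointwise_smul_le_pointwise_smul_iff]; exact h.le_M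
  · rintro N ⟨hN1, hN2⟩
    rw [hP, Subgroup.pointwise_smul_subset_iff] at hN2
    have hN3 : IsCoatom ((MulAut.conj g)⁻¹ • N) := ((MulAut.conj g)⁻¹.mapSubgroup.isCoatom_iff N).mpr hN1
    have e := (hN3.le_iff.mp (h.top _ hN2 hN3.1))
    rcases e with e | e
    · exact absurd e h.ne
    · rw [e, smul_inv_smul]

theorem omcS_eq : omegaOneCenter p (S : Subgroup X) =
    (omegaOne p (Subgroup.center ↥(S : Subgroup X))).map (S : Subgroup X).subtype := by
  rw [omegaOne_map_injective p _ (S : Subgroup X).subtype_injective, omegaOneCenter]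
  congr 1
  ext x
  constructor
  · rintro ⟨hx, hc⟩
    exact ⟨⟨x, hx⟩, Subgroup.mem_center_iff.mpr fun y => Subtype.ext (Subgroup.mem_centralizer_iff.mp hc y y.2), rfl⟩
  · rintro ⟨y, hy, rfl⟩
    exact ⟨y.2, Subgroup.mem_centralizer_iff.mpr fun z hz =>
      congrArg Subtype.val (Subgroup.mem_center_iff.mp hy ⟨z, hz⟩)⟩

theorem omcS_ne_bot (h : Ctx S M) : omegaOne p (Subgroup.center ↥(S : Subgroup X)) ≠ ⊥ := by
  haveI : Nontrivial ↥(S : Subgroup X) := (Subgroup.nontrivial_iff_ne_bot _).mpr h.sylow_ne_bot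
  haveI := S.2.center_nontrivial
  obtain ⟨x, hx⟩ := exists_prime_orderOf_dvd_card' p ((S.2.to_subgroup (Subgroup.center _)).nontrivial_iff_card.mp inferInstance
    |>.elim fun n hn => by rw [hn.2]; exact dvd_pow_self p hn.1.ne')
  intro e
  have hmem : (x : ↥(S : Subgroup X)) ∈ omegaOne p (Subgroup.center ↥(S : Subgroup X)) :=
    Subgroup.subset_closure ⟨x.2, by
      have h1 : x ^ p = 1 := by
        have h0 := pow_orderOf_eq_one x
        rwa [hx] at h0
      exact congrArg Subtype.val h1⟩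
  rw [e, Subgroup.mem_bot] at hmem
  rw [← Subgroup.orderOf_coe, hmem, orderOf_one] at hx
  exact (Fact.out : p.Prime).one_lt.ne hx

theorem cStarStar_le (h : Ctx S M) : cStarStarOf p (S : Subgroup X) ≤ M := by
  refine sup_le ?_ ?_
  · rw [omcS_eq]
    haveI := omegaOne_characteristic p (Subgroup.center ↥(S : Subgroup X))
    exact (Subgroup.centralizer_le_normalizer _).trans (h.normalizer_char_le h.omcS_ne_bot inferInstance)
  · refine h.normalizer_char_le (fun e => ?_) inferInstance
    obtain ⟨A, hA⟩ := Fusion.Thompson.exists_maxEA (p := p) (G := ↥(S : Subgroup X))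
    have hA0 : A = ⊥ := le_bot_iff.mp (e ▸ (le_sSup hA : A ≤ thompsonSubgroup p ↥(S : Subgroup X)))
    have hle : Nat.card (omegaOne p (Subgroup.center ↥(S : Subgroup X))) ≤ 1 := by
      have h1 := hA.2 (omegaOne p (Subgroup.center ↥(S : Subgroup X))) ?_
      · rwa [hA0, Subgroup.card_bot] at h1
      · have hcomm : ∀ a ∈ omegaOne p (Subgroup.center ↥(S : Subgroup X)), ∀ b, b * a = a * b := fun a ha b =>
          Subgroup.mem_center_iff.mp (omegaOne_le _ ha) b
        refine ⟨IsMulCommutative.of_comm fun a b => Subtype.ext (hcomm b b.2 a), fun a ha => ?_⟩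
        induction ha using Subgroup.closure_induction with
        | mem x hx => exact hx.2
        | one => exact one_pow p
        | mul x y hx hy ix iy =>
          have hc : Commute x y := hcomm y hy x
          rw [hc.mul_pow, ix, iy, one_mul]
        | inv x _ ix => rw [inv_pow, ix, inv_one]
    exact h.omcS_ne_bot (Subgroup.eq_bot_of_card_le _ hle)

theorem omcS_le (h : Ctx S M) : omegaOneCenter p (S : Subgroup X) ≤ Vp p X := by
  intro x hx
  obtain ⟨hxS, hxc⟩ := omc_le _ hx
  have hxQ : x ∈ pCore p X := h.con (Subgroup.mem_centralizer_iff.mpr fun q hq =>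
    Subgroup.mem_centralizer_iff.mp hxc q (Solvable.Cores.pCore_le_sylow S hq))
  exact mem_omc hxQ (fun y hy => Subgroup.mem_centralizer_iff.mp hxc y (Solvable.Cores.pCore_le_sylow S hy)) (omc_pow _ hx)

theorem C_le (h : Ctx S M) : Cp p X ≤ M := by
  haveI := Cp_normal (p := p) (G := X)
  rcases h.eq_top_or_le (H := Cp p X ⊔ (S : Subgroup X)) le_sup_right with he | he
  · exfalso
    refine h.ne (eq_top_iff.mpr ?_)
    rw [← he]
    refine sup_le (fun c hc => ?_) h.le_M
    refine h.cStarStar_le (Subgroup.mem_sup_left ?_)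
    exact Subgroup.centralizer_le (SetLike.coe_subset_coe.mpr h.omcS_le) hc
  · exact le_sup_left.trans he

/-- The subgroup `J(X) C`. -/
abbrev Lp (p : ℕ) (X : Type*) [Group X] : Subgroup X := thompsonSubgroup p X ⊔ Cp p X

theorem Lp_normal : (Lp p X).Normal := by
  haveI := Cp_normal (p := p) (G := X)
  infer_instance

theorem J_sup_S (h : Ctx S M) (htop : thompsonSubgroup p X ⊔ (S : Subgroup X) ⊔ Cp p X = ⊤) :
    thompsonSubgroup p X ⊔ (S : Subgroup X) = ⊤ := by
  rcases h.eq_top_or_le (H := thompsonSubgroup p X ⊔ (S : Subgroup X)) le_sup_right with he | he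
  · exact he
  · exact absurd (eq_top_iff.mpr (htop ▸ sup_le he h.C_le)) h.ne

end Ctx

/-- The frame, in coordinates where `S` is upper unitriangular. -/
structure Unip (S : Sylow p X) {r : ℕ} {F : Fin r → Type} [∀ i, Field (F i)] {V L : Subgroup X} [V.Normal]
    (Φ : Frame V L F) : Prop where
  unip : ∀ s : L, (s : X) ∈ (S : Subgroup X) → ∀ i, Φ.ρ i s ∈ unipSL (F i)
  lift : ∀ c : ∀ i, F i, ∃ s : L, (s : X) ∈ (S : Subgroup X) ∧ ∀ i, Φ.ρ i s = uSL (Multiplicative.ofAdd (c i))

theorem exists_unip (S : Sylow p X) {r : ℕ} {F : Fin r → Type} [∀ i, Field (F i)] [∀ i, Fintype (F i)]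
    [∀ i, CharP (F i) p] {V L : Subgroup X} [V.Normal] [L.Normal] (Φ : Frame V L F) :
    ∃ Φ' : Frame V L F, Unip S Φ' := by
  obtain ⟨P, hP⟩ := exists_sylow_inf S L
  have hs : ∀ i, Function.Surjective (Φ.ρ i) := fun i M => by
    classical
    obtain ⟨l, hl⟩ := Φ.ρ_surj fun j => if e : j = i then e ▸ M else 1
    exact ⟨l, by rw [hl i, dif_pos rfl]⟩
  choose x hx using fun i => sylowSL2_exists_conj (F := F i) (P.mapSurjective (hs i))
  refine ⟨Φ.conjugate x, ?_⟩
  have hun : ∀ s : L, s ∈ (P : Subgroup L) → ∀ i, (Φ.conjugate x).ρ i s ∈ unipSL (F i) := by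
    intro s hs' i
    have h1 : Φ.ρ i s ∈ MulAut.conj (x i) • unipSL (F i) := by
      rw [← hx i, Sylow.coe_mapSurjective]
      exact ⟨s, hs', rfl⟩
    rw [Subgroup.mem_pointwise_smul_iff_inv_smul_mem, ← map_inv] at h1
    exact h1
  refine ⟨fun s hs' => hun s (by rw [hP]; exact hs'), fun c => ?_⟩
  let π : L →* ∀ i, SL(2, F i) := MonoidHom.pi fun i => (Φ.conjugate x).ρ i
  have hπ : Function.Surjective π := fun m => by
    obtain ⟨l, hl⟩ := (Φ.conjugate x).ρ_surj m
    exact ⟨l, funext hl⟩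
  have hle : ((P.mapSurjective hπ : Sylow p _) : Subgroup (∀ i, SL(2, F i))) ≤
      Subgroup.pi Set.univ fun i => unipSL (F i) := by
    rw [Sylow.coe_mapSurjective]
    rintro _ ⟨s, hs', rfl⟩ i -
    exact hun s hs' i
  have heq := (P.mapSurjective hπ).is_maximal' (isPGroup_pi _ fun i => (unipSLSylow (F := F i) p).2) hle
  have hmem : (fun i => (uSL (Multiplicative.ofAdd (c i)) : SL(2, F i))) ∈
      ((P.mapSurjective hπ : Sylow p _) : Subgroup (∀ i, SL(2, F i))) := by
    rw [← heq]; exact fun i _ => ⟨_, rfl⟩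
  rw [Sylow.coe_mapSurjective] at hmem
  obtain ⟨s, hs', he⟩ := hmem
  refine ⟨s, ?_, fun i => congrFun he i⟩
  rw [SetLike.mem_coe, hP] at hs'
  exact hs'

/-- Everything S2981 says about a minimal configuration, for odd `p`. -/
theorem Ctx.exists_frame {S : Sylow p X} {M : Subgroup X} (h : Ctx S M) [(Vp p X).Normal] :
    ∃ (r : ℕ) (F : Fin r → Type) (_ : ∀ i, Field (F i)) (_ : ∀ i, Fintype (F i)) (_ : ∀ i, CharP (F i) p)
      (Φ : Frame (Vp p X) (Ctx.Lp p X) F), Unip S Φ ∧ thompsonSubgroup p X ⊔ (S : Subgroup X) = ⊤ := by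
  classical
  haveI := Cp_normal (p := p) (G := X)
  obtain ⟨r, E, hle, htop, hsup, hcomm, -, -, hdec, hoff, hblk⟩ :=
    Cfsg.Agent.S2981.result h.isPMinimal h.con S (fun e => h.ne (eq_top_iff.mpr (e ▸ h.cStarStar_le)))
  have hblk' : ∀ i, ∃ n : ℕ, ∃ (F : Type) (_ : Field F) (_ : Fintype F), Fintype.card F = p ^ n ∧
      (∃ _ : ((Subgroup.centralizer (Vp p X : Set X)).subgroupOf (E i)).Normal,
        Nonempty (↥(E i) ⧸ (Subgroup.centralizer (Vp p X : Set X)).subgroupOf (E i) ≃* SL(2, F))) ∧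
      ActsAsSL2OnSection F ⊤ (E i) ⁅Vp p X, E i⁆ (⁅Vp p X, E i⁆ ⊓ Subgroup.centralizer ((E i : Subgroup X) : Set X)) := by
    intro i
    obtain ⟨n, -, hc | ⟨h2, -⟩⟩ := hblk i
    · exact ⟨n, hc⟩
    · exact absurd h2 h.hp
  choose n F iF iT hF hquot hact using hblk'
  haveI : ∀ i, CharP (F i) p := fun i => charP_of_card_eq_prime_pow (hF i)
  choose hCn hiso using hquot
  choose ρ ψ hρ hψ hker heq using fun i => (hact i).2.2
  haveI : ∀ i, Finite SL(2, F i) := fun i => inferInstance
  let B : Blocks p (Vp p X) E F :=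
    { hp := h.odd
      comm := fun v hv w hw => Fusion.Thompson.mul_comm_of_isEA (omc_isEA _) hv hw
      pow := fun v hv => omc_pow _ hv
      le := hle
      commE := hcomm
      dec := hdec
      off := hoff
      nrm := fun i => (hact i).1
      ρ := ρ
      ρ_surj := fun i => MonoidHom.range_eq_top.mp (hρ i)
      ρ_ker := fun i e he => by
        haveI := hCn i
        have h1 : (Subgroup.centralizer (Vp p X : Set X)).subgroupOf (E i) ≤ (ρ i).ker := by
          intro c hc
          rw [MonoidHom.mem_ker]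
          refine sl_ext (Matrix.ext fun a b => ?_)
          obtain ⟨u, hu⟩ := hψ i (Multiplicative.ofAdd (Pi.single b 1))
          obtain ⟨w, hw, hw2⟩ := heq i c u
          have hwu : w = u := Subtype.ext (by
            rw [hw]
            exact mul_inv_eq_iff_eq_mul.mpr (Subgroup.mem_centralizer_iff.mp hc u (Blocks.U_le i u.2)).symm)
          rw [hwu, hu, toAdd_ofAdd, Matrix.mulVec_single_one] at hw2
          have h3 := (congrFun hw2 a).symm
          simpa [Matrix.one_apply, Pi.single_apply] using h3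
        have hcard : ((Subgroup.centralizer (Vp p X : Set X)).subgroupOf (E i)).index = (ρ i).ker.index := by
          rw [Subgroup.index_ker, hρ i, Subgroup.index_eq_card, Subgroup.card_top]
          exact Nat.card_congr (hiso i).some.toEquiv
        have h2 : (Subgroup.centralizer (Vp p X : Set X)).subgroupOf (E i) = (ρ i).ker := by
          refine le_antisymm h1 (Subgroup.relIndex_eq_one.mp ?_)
          have h4 := Subgroup.relIndex_mul_index h1
          rw [hcard] at h4
          exact (Nat.mul_eq_right Subgroup.index_ne_zero_of_finite).mp h4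
        have : e ∈ (ρ i).ker := he
        rw [← h2] at this
        exact this
      ψ := ψ
      ψ_surj := hψ
      ψ_ker := fun i u hu => ((hker i u).mp hu).2
      equiv := fun i e u w hw => by
        obtain ⟨w', hw', h'⟩ := heq i e u
        rwa [show w = w' from Subtype.ext (hw.trans hw'.symm)] }
  haveI := Ctx.Lp_normal (p := p) (X := X)
  have hΦ : Nonempty (Frame (Vp p X) (Ctx.Lp p X) F) := by
    rw [show Ctx.Lp p X = ⨆ i, E i from hsup.symm]
    exact ⟨B.toFrame⟩
  obtain ⟨Φ', hΦ'⟩ := exists_unip S hΦ.some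
  exact ⟨r, F, iF, iT, inferInstance, Φ', hΦ', h.J_sup_S htop⟩

end CfsgLib.CharTransfer
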